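import Cfsg.Agent.Lib.SuOddGen.Spread
import Cfsg.Agent.Lib.SuOddGen.Cert
import Mathlib

/-!
Verifying that five centres with given inner products fill their span over the field of four elements.
-/

set_option autoImplicit false
set_option linter.unusedSectionVars false
set_option linter.unusedSimpArgs false

namespace Cfsg.Agent.Lib.SuOddGen

open Matrix
open Cfsg.Agent.Lib.MaxSub

/-- Multiplication by the root, on codes. -/
def xt4 (x : ℕ) : ℕ := Nat.xor (if x.testBit 0 then 2 else 0) (if x.testBit 1 then 3 else 0)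

/-- Product of codes. -/
def mul4 (x y : ℕ) : ℕ := Nat.xor (if y.testBit 0 then x else 0) (if y.testBit 1 then xt4 x else 0)

/-- Conjugate of a code. -/
def sig4 (x : ℕ) : ℕ := mul4 x x

/-- A coordinate of a coded vector. -/
def co (v i : ℕ) : ℕ := (v >>> (2 * i)) % 4

/-- The Gram entries of the five centres. -/
def gramT (c : ℕ → ℕ) (i j : ℕ) : ℕ := if i ≤ j then c (j - i) else sig4 (c (i - j))

/-- A row of the form. -/
def row4 (c : ℕ → ℕ) (v j : ℕ) : ℕ :=
  Nat.xor (mul4 (sig4 (co v 0)) (gramT c 0 j)) (Nat.xor (mul4 (sig4 (co v 1)) (gramT c 1 j))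
    (Nat.xor (mul4 (sig4 (co v 2)) (gramT c 2 j)) (Nat.xor (mul4 (sig4 (co v 3)) (gramT c 3 j))
      (mul4 (sig4 (co v 4)) (gramT c 4 j)))))

/-- The form on coded vectors. -/
def form4 (c : ℕ → ℕ) (v w : ℕ) : ℕ :=
  Nat.xor (mul4 (row4 c v 0) (co w 0)) (Nat.xor (mul4 (row4 c v 1) (co w 1))
    (Nat.xor (mul4 (row4 c v 2) (co w 2)) (Nat.xor (mul4 (row4 c v 3) (co w 3))
      (mul4 (row4 c v 4) (co w 4)))))

/-- One derivation. -/
def okStep (c : ℕ → ℕ) (known : ℕ) : ℕ × ℕ × ℕ → Option ℕ
  | (0, a, b) =>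
    if known.testBit a && known.testBit b && form4 c a b % 4 == 1 &&
      form4 c (Nat.xor a b) (Nat.xor a b) % 4 == 0 then some (Nat.xor a b) else none
  | (s, a, b) =>
    if known.testBit a && (List.range 5).all (fun i => co b i == mul4 s (co a i) % 4) then some b else none

/-- All derivations, with the final covering test. -/
def check (c : ℕ → ℕ) : List (ℕ × ℕ × ℕ) → ℕ → Bool
  | [], known => (List.range 1024).all fun v => !(form4 c v v % 4 == 0) || v == 0 || known.testBit v
  | e :: l, known => match okStep c known e with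
    | some v => check c l (known ||| (1 <<< v))
    | none => false

/-- Non-degeneracy of the five centres. -/
def ndCheck (c : ℕ → ℕ) : Bool :=
  (List.range 1024).all fun v => v == 0 || (List.range 5).any fun j => !(row4 c v j % 4 == 0)

/-- The codes of the five centres. -/
def start : ℕ := (1 <<< 1) ||| (1 <<< 4) ||| (1 <<< 16) ||| (1 <<< 64) ||| (1 <<< 256)

section

variable {F : Type*} [Field F] (ω : F)

/-- Meaning of a code. -/
def dec4 (x : ℕ) : F := (if x.testBit 0 then 1 else 0) + (if x.testBit 1 then ω else 0)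

theorem dec4_mod (x : ℕ) : dec4 ω (x % 4) = dec4 ω x := by
  rw [show (4 : ℕ) = 2 ^ 2 from rfl, dec4, dec4, Nat.testBit_mod_two_pow, Nat.testBit_mod_two_pow]
  simp

variable [CharP F 2]

theorem dec4_xor (x y : ℕ) : dec4 ω (Nat.xor x y) = dec4 ω x + dec4 ω y := by
  have h : ∀ i, (Nat.xor x y).testBit i = (x.testBit i ^^ y.testBit i) := fun i => Nat.testBit_xor x y i
  have hi : ∀ (a b : Bool) (z : F),
      (if (a ^^ b) = true then z else 0) = (if a = true then z else 0) + (if b = true then z else 0) := fun a b z => by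
    cases a <;> cases b <;> simp [CharTwo.add_self_eq_zero]
  simp only [dec4, h, hi]
  ring

variable {ω} (hω : ω ^ 2 = ω + 1)
include hω

theorem dec4_xt (x : ℕ) : dec4 ω (xt4 x) = ω * dec4 ω x := by
  rw [xt4, dec4_xor]
  simp only [dec4]
  rcases x.testBit 0 <;> rcases x.testBit 1 <;> simp [Nat.testBit_succ] <;> linear_combination -hω

theorem dec4_mul (x y : ℕ) : dec4 ω (mul4 x y) = dec4 ω x * dec4 ω y := by
  rw [mul4, dec4_xor, show dec4 ω y = (if y.testBit 0 then 1 else 0) + (if y.testBit 1 then ω else 0) from rfl]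
  split_ifs <;> simp [dec4_xt hω, show dec4 ω 0 = 0 by simp [dec4]] <;> ring

theorem dec4_sig (x : ℕ) : dec4 ω (sig4 x) = dec4 ω x ^ 2 := by rw [sig4, dec4_mul hω, sq]

theorem dec4_ne {x : ℕ} (hx : x % 4 ≠ 0) : dec4 ω x ≠ 0 := by
  have h0 : ω ≠ 0 := fun h => by rw [h] at hω; simp at hω
  have h1 : (1 : F) + ω ≠ 0 := fun h => h0 (by linear_combination -hω + (ω - 1) * h)
  rw [← dec4_mod]
  have : x % 4 = 1 ∨ x % 4 = 2 ∨ x % 4 = 3 := by omega
  rcases this with h | h | h <;> rw [h] <;> simp [dec4, Nat.testBit_succ, h0, h1]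

end

section

variable {ι : Type} [Fintype ι] [DecidableEq ι] {F : Type*} [Field F] {f : HermF ι F} {K : Subgroup (GL ι F)}
  {ω : F} (w : ℕ → (ι → F))

/-- Meaning of a coded vector. -/
def vec (ω : F) (w : ℕ → (ι → F)) (v : ℕ) : ι → F :=
  dec4 ω (co v 0) • w 0 + dec4 ω (co v 1) • w 1 + dec4 ω (co v 2) • w 2 + dec4 ω (co v 3) • w 3 +
    dec4 ω (co v 4) • w 4

variable [CharP F 2]

theorem co_xor (a b i : ℕ) : dec4 ω (co (Nat.xor a b) i) = dec4 ω (co a i) + dec4 ω (co b i) := by
  simp only [co, dec4_mod]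
  rw [← dec4_xor]
  congr 1
  exact Nat.shiftRight_xor_distrib

theorem vec_xor (a b : ℕ) : vec ω w (Nat.xor a b) = vec ω w a + vec ω w b := by
  simp only [vec, co_xor]
  module

variable (hω : ω ^ 2 = ω + 1) (hσ : ∀ x : F, f.σ x = x ^ 2) {c : ℕ → ℕ}
  (hg : ∀ i < 5, ∀ j < 5, f.B (w i) (w j) = dec4 ω (gramT c i j))
include hω hσ hg

theorem form_eq (v v' : ℕ) : f.B (vec ω w v) (vec ω w v') = dec4 ω (form4 c v v') := by
  simp only [vec, map_add, LinearMap.add_apply, LinearMap.map_smulₛₗ, LinearMap.smul_apply, map_smul, smul_eq_mul,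
    hσ, ← dec4_sig hω, form4, row4, dec4_xor, dec4_mul hω]
  simp (disch := decide) only [hg]
  ring

theorem check_sound : ∀ (l : List (ℕ × ℕ × ℕ)) (known : ℕ), check c l known = true →
    (∀ v, known.testBit v = true → f.Ctr K (vec ω w v)) →
    ∀ v < 1024, f.Iso (vec ω w v) → f.Ctr K (vec ω w v) := by
  intro l
  induction l with
  | nil =>
    intro known h hk v hv hi
    simp only [check, List.all_eq_true, List.mem_range] at h
    have := h v hv
    simp only [Bool.or_eq_true, Bool.not_eq_true', beq_iff_eq, beq_eq_false_iff_ne] at this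
    rcases this with (h | rfl) | h
    · exact absurd ((form_eq w hω hσ hg v v).symm.trans hi) (dec4_ne hω h)
    · rw [show vec ω w 0 = 0 by simp [vec, co, dec4]]; exact HermF.Ctr.zero f K
    · exact hk v h
  | cons e l ih =>
    intro known h hk v hv hi
    simp only [check] at h
    cases hs : okStep c known e with
    | none => simp [hs] at h
    | some x =>
      rw [hs] at h
      refine ih _ h (fun v' hv' => ?_) v hv hi
      rw [Nat.testBit_or, Bool.or_eq_true] at hv'
      rcases hv' with hv' | hv'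
      · exact hk v' hv'
      rw [Nat.one_shiftLeft, Nat.testBit_two_pow, decide_eq_true_iff] at hv'
      subst hv'
      obtain ⟨s, a, b⟩ := e
      rcases s with _ | s
      · simp only [okStep, Option.ite_none_right_eq_some, Option.some.injEq, Bool.and_eq_true, beq_iff_eq] at hs
        obtain ⟨⟨⟨⟨ha, hb⟩, h1⟩, h2⟩, rfl⟩ := hs
        rw [vec_xor]
        refine (hk a ha).add (hk b hb) ?_ ?_
        · rw [form_eq w hω hσ hg, ← dec4_mod, h1]; exact dec4_ne hω (by norm_num)
        · show f.B _ _ = 0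
          rw [← vec_xor, form_eq w hω hσ hg, ← dec4_mod, h2]; simp [dec4]
      · simp only [okStep, Option.ite_none_right_eq_some, Option.some.injEq, Bool.and_eq_true, beq_iff_eq,
          List.all_eq_true, List.mem_range] at hs
        obtain ⟨⟨ha, hb⟩, rfl⟩ := hs
        have e' : vec ω w b = dec4 ω (s + 1) • vec ω w a := by
          simp (disch := decide) only [vec, hb, dec4_mod, dec4_mul hω, smul_add, smul_smul]
        rw [e']
        exact (hk a ha).smul _

theorem nd_sound (hnd : ndCheck c = true) {v : ℕ} (hv : v < 1024)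
    (h : ∀ i < 5, f.B (vec ω w v) (w i) = 0) : v = 0 := by
  simp only [ndCheck, List.all_eq_true, List.mem_range] at hnd
  have := hnd v hv
  simp only [Bool.or_eq_true, beq_iff_eq, List.any_eq_true, List.mem_range, Bool.not_eq_true',
    beq_eq_false_iff_ne] at this
  rcases this with h0 | ⟨j, hj, hne⟩
  · exact h0
  refine absurd ?_ (dec4_ne hω hne)
  have := h j hj
  simp only [vec, map_add, LinearMap.add_apply, LinearMap.map_smulₛₗ, LinearMap.smul_apply, smul_eq_mul,
    hσ, ← dec4_sig hω] at this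
  simp (disch := first | decide | omega) only [hg] at this
  simp only [row4, dec4_xor, dec4_mul hω]
  linear_combination this

omit hσ hg in
theorem exists_code [Fintype F] (hF : Fintype.card F = 4) (x : F) : ∃ a < 4, dec4 ω a = x := by
  classical
  have hinj : Function.Injective (fun a : Fin 4 => dec4 ω a) := by
    intro a b h
    have h' : dec4 ω (Nat.xor a b) = 0 := by
      rw [dec4_xor]
      simp only at h
      rw [h, CharTwo.add_self_eq_zero]
    by_contra hab
    refine dec4_ne hω ?_ h'
    clear h' h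
    revert hab
    revert a b
    decide
  obtain ⟨a, ha⟩ := ((Fintype.bijective_iff_injective_and_card _).2 ⟨hinj, by rw [Fintype.card_fin, hF]⟩).2 x
  exact ⟨a, a.2, ha⟩

omit hσ hg in
theorem exists_vec [Fintype F] (hF : Fintype.card F = 4) (a : Fin 5 → F) :
    ∃ v < 1024, vec ω w v = ∑ i, a i • w i := by
  obtain ⟨b0, h0, e0⟩ := exists_code hω hF (a 0)
  obtain ⟨b1, h1, e1⟩ := exists_code hω hF (a 1)
  obtain ⟨b2, h2, e2⟩ := exists_code hω hF (a 2)
  obtain ⟨b3, h3, e3⟩ := exists_code hω hF (a 3)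
  obtain ⟨b4, h4, e4⟩ := exists_code hω hF (a 4)
  obtain ⟨v, hv⟩ : ∃ v, v = b0 + 4 * b1 + 16 * b2 + 64 * b3 + 256 * b4 := ⟨_, rfl⟩
  have c0 : co v 0 = b0 := by simp only [co, Nat.shiftRight_eq_div_pow]; norm_num; omega
  have c1 : co v 1 = b1 := by simp only [co, Nat.shiftRight_eq_div_pow]; norm_num; omega
  have c2 : co v 2 = b2 := by simp only [co, Nat.shiftRight_eq_div_pow]; norm_num; omega
  have c3 : co v 3 = b3 := by simp only [co, Nat.shiftRight_eq_div_pow]; norm_num; omega
  have c4 : co v 4 = b4 := by simp only [co, Nat.shiftRight_eq_div_pow]; norm_num; omega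
  refine ⟨v, by omega, ?_⟩
  simp only [vec, c0, c1, c2, c3, c4, e0, e1, e2, e3, e4, Fin.sum_univ_five]
  rfl

/-- Five centres passing the test span a full non-degenerate subspace of dimension five. -/
theorem five_full [Fintype F] (hF : Fintype.card F = 4) {l : List (ℕ × ℕ × ℕ)} (hl : check c l start = true)
    (hnd : ndCheck c = true) (hw : ∀ i < 5, f.Ctr K (w i)) :
    Nd f (Submodule.span F (Set.range fun i : Fin 5 => w i)) ∧
      FullOn f K (Submodule.span F (Set.range fun i : Fin 5 => w i)) ∧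
      Module.finrank F (Submodule.span F (Set.range fun i : Fin 5 => w i)) = 5 := by
  have hmem : ∀ i < 5, w i ∈ Submodule.span F (Set.range fun i : Fin 5 => w i) := fun i hi =>
    Submodule.subset_span ⟨⟨i, hi⟩, rfl⟩
  have hunit : ∀ v, start.testBit v = true → f.Ctr K (vec ω w v) := by
    intro v hv
    simp only [start, Nat.testBit_or, Bool.or_eq_true, Nat.one_shiftLeft, Nat.testBit_two_pow,
      decide_eq_true_iff] at hv
    rcases hv with (((rfl | rfl) | rfl) | rfl) | rfl
    · simpa [vec, co, dec4, Nat.shiftRight_eq_div_pow, Nat.testBit_succ] using hw 0 (by norm_num)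
    · simpa [vec, co, dec4, Nat.shiftRight_eq_div_pow, Nat.testBit_succ] using hw 1 (by norm_num)
    · simpa [vec, co, dec4, Nat.shiftRight_eq_div_pow, Nat.testBit_succ] using hw 2 (by norm_num)
    · simpa [vec, co, dec4, Nat.shiftRight_eq_div_pow, Nat.testBit_succ] using hw 3 (by norm_num)
    · simpa [vec, co, dec4, Nat.shiftRight_eq_div_pow, Nat.testBit_succ] using hw 4 (by norm_num)
  refine ⟨fun z hz hall => ?_, fun z hz hi => ?_, ?_⟩
  · obtain ⟨a, rfl⟩ := (Submodule.mem_span_range_iff_exists_fun F).1 hz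
    obtain ⟨v, hv, e⟩ := exists_vec w hω hF a
    rw [← e] at hall ⊢
    rw [nd_sound w hω hσ hg hnd hv fun i hi => hall _ (hmem i hi)]
    simp [vec, co, dec4]
  · obtain ⟨a, rfl⟩ := (Submodule.mem_span_range_iff_exists_fun F).1 hz
    obtain ⟨v, hv, e⟩ := exists_vec w hω hF a
    rw [← e] at hi ⊢
    exact check_sound w hω hσ hg l start hl hunit v hv hi
  · rw [finrank_span_eq_card, Fintype.card_fin]
    rw [Fintype.linearIndependent_iff]
    intro a ha
    obtain ⟨b0, hb0, e0⟩ := exists_code hω hF (a 0)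
    obtain ⟨b1, hb1, e1⟩ := exists_code hω hF (a 1)
    obtain ⟨b2, hb2, e2⟩ := exists_code hω hF (a 2)
    obtain ⟨b3, hb3, e3⟩ := exists_code hω hF (a 3)
    obtain ⟨b4, hb4, e4⟩ := exists_code hω hF (a 4)
    obtain ⟨v', hv'⟩ : ∃ v', v' = b0 + 4 * b1 + 16 * b2 + 64 * b3 + 256 * b4 := ⟨_, rfl⟩
    have c0 : co v' 0 = b0 := by simp only [co, Nat.shiftRight_eq_div_pow]; norm_num; omega
    have c1 : co v' 1 = b1 := by simp only [co, Nat.shiftRight_eq_div_pow]; norm_num; omega
    have c2 : co v' 2 = b2 := by simp only [co, Nat.shiftRight_eq_div_pow]; norm_num; omega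
    have c3 : co v' 3 = b3 := by simp only [co, Nat.shiftRight_eq_div_pow]; norm_num; omega
    have c4 : co v' 4 = b4 := by simp only [co, Nat.shiftRight_eq_div_pow]; norm_num; omega
    have h0' : v' = 0 := nd_sound w hω hσ hg hnd (by omega) fun i _ => by
      have e' : vec ω w v' = ∑ i, a i • w i := by
        simp only [vec, c0, c1, c2, c3, c4, e0, e1, e2, e3, e4, Fin.sum_univ_five]; rfl
      rw [e', ha]; simp
    have hz : dec4 ω 0 = 0 := by simp [dec4]
    intro i
    fin_cases i
    · rw [show b0 = 0 by omega, hz] at e0; exact e0.symm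
    · rw [show b1 = 0 by omega, hz] at e1; exact e1.symm
    · rw [show b2 = 0 by omega, hz] at e2; exact e2.symm
    · rw [show b3 = 0 by omega, hz] at e3; exact e3.symm
    · rw [show b4 = 0 by omega, hz] at e4; exact e4.symm

end

end Cfsg.Agent.Lib.SuOddGen
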