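import Cfsg.Agent.Lib.SuOddGen.Model
import Cfsg.Agent.Lib.MaxSub.UnitaryStd
import Mathlib

/-!
Three conjugate regular unipotent elements generate, over fields of norm group larger than one.
-/

set_option autoImplicit false
set_option linter.unusedSectionVars false
set_option linter.unusedSimpArgs false

namespace Cfsg.Agent.Lib.SuOddGen

open Matrix
open Cfsg.Agent.Lib.MaxSub

/-- The conclusion sought. -/
def Gen3 (n : ℕ) (F : Type*) [Field F] [Fintype F] (q : ℕ) : Prop :=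
  ∃ u g h : ↥(Cfsg.SU n F q), (IsNilpotent (((u : Matrix.SpecialLinearGroup (Fin n) F) : Matrix (Fin n) (Fin n) F) - 1) ∧ (((u : Matrix.SpecialLinearGroup (Fin n) F) : Matrix (Fin n) (Fin n) F) - 1) ^ (n - 1) ≠ 0) ∧
    Subgroup.closure ({u, g * u * g⁻¹, h * u * h⁻¹} : Set ↥(Cfsg.SU n F q)) = ⊤

theorem finish {F : Type*} [Field F] [Fintype F] {q n : ℕ} (hF : Fintype.card F = q ^ 2) (hn : 4 ≤ n)
    {u g h : GL (Fin n) F} (hu : (stdHerm n hF).Preserves u) (hu' : u ∈ Cfsg.Geo.specialLinear (Fin n) F)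
    (hg : (stdHerm n hF).Preserves g) (hg' : g ∈ Cfsg.Geo.specialLinear (Fin n) F)
    (hh : (stdHerm n hF).Preserves h) (hh' : h ∈ Cfsg.Geo.specialLinear (Fin n) F)
    (hnil : IsNilpotent ((u : Matrix (Fin n) (Fin n) F) - 1))
    (hreg : ((u : Matrix (Fin n) (Fin n) F) - 1) ^ (n - 1) ≠ 0)
    (hK : FullOn (stdHerm n hF) (Subgroup.closure ({u, g * u * g⁻¹, h * u * h⁻¹} : Set (GL (Fin n) F))) ⊤) :
    Gen3 n F q := by
  let ψ : Cfsg.SU n F q →* GL (Fin n) F := (Matrix.SpecialLinearGroup.toGL).comp (Cfsg.SU n F q).subtype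
  have hlift : ∀ {k : GL (Fin n) F}, (stdHerm n hF).Preserves k → k ∈ Cfsg.Geo.specialLinear (Fin n) F →
      ∃ A : Cfsg.SU n F q, ψ A = k := fun {k} h1 h2 =>
    ⟨⟨⟨(k : Matrix (Fin n) (Fin n) F), congrArg Units.val (MonoidHom.mem_ker.mp h2)⟩, (mem_suGL hF h1 h2).1⟩,
      Units.ext rfl⟩
  obtain ⟨U, rfl⟩ := hlift hu hu'
  obtain ⟨G, rfl⟩ := hlift hg hg'
  obtain ⟨H, rfl⟩ := hlift hh hh'
  refine ⟨U, G, H, ⟨hnil, hreg⟩, eq_top_iff.2 fun A _ => ?_⟩
  have hA : ψ A ∈ Cfsg.GU n F q ⊓ Cfsg.Geo.specialLinear (Fin n) F :=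
    ⟨A.2, MonoidHom.mem_ker.mpr (Units.ext A.1.2)⟩
  have h1 := suGL_le hF hn (fun w hw => hK w trivial hw) hA
  rw [show ({ψ U, ψ G * ψ U * (ψ G)⁻¹, ψ H * ψ U * (ψ H)⁻¹} : Set (GL (Fin n) F)) =
      ψ '' {U, G * U * G⁻¹, H * U * H⁻¹} by simp [Set.image_insert_eq], ← MonoidHom.map_closure] at h1
  obtain ⟨B, hB, hBA⟩ := h1
  have : B = A := Subtype.ext (Subtype.ext (congrArg (fun x : GL (Fin n) F => (x : Matrix (Fin n) (Fin n) F)) hBA))
  exact this ▸ hB

variable {F : Type*} [Field F] {n m : ℕ} {f : HermF (Fin n) F}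

/-- The three vectors of the Gram pattern are independent and span a non-degenerate space. -/
theorem frame {e x y : Fin n → F} {a γ : F} (he : f.B e e = 0) (hx : f.B x x = 0) (hy : f.B y y = 0)
    (hex : f.B e x = a) (hey : f.B e y = a) (hxy : f.B x y = γ) (ha : a ≠ 0) (hγ : γ + f.σ γ ≠ 0) :
    LinearIndependent F ![e, x, y] ∧ Nd f (Submodule.span F (Set.range ![e, x, y])) := by
  have hxe : f.B x e = f.σ a := by rw [← hex, f.herm]
  have hye : f.B y e = f.σ a := by rw [← hey, f.herm]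
  have hyx : f.B y x = f.σ γ := by rw [← hxy, f.herm]
  have key : ∀ r s t : F, f.B (r • e + s • x + t • y) e = 0 → f.B (r • e + s • x + t • y) x = 0 →
      f.B (r • e + s • x + t • y) y = 0 → r = 0 ∧ s = 0 ∧ t = 0 := by
    intro r s t h1 h2 h3
    simp only [map_add, LinearMap.add_apply, LinearMap.map_smulₛₗ, LinearMap.smul_apply, smul_eq_mul, he, hx, hy,
      hex, hey, hxy, hxe, hye, hyx, mul_zero, zero_add, add_zero] at h1 h2 h3
    have ha' : f.σ a ≠ 0 := fun h => ha (f.σ_eq_zero.1 h)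
    have hst : f.σ s + f.σ t = 0 :=
      (mul_eq_zero.1 (show (f.σ s + f.σ t) * f.σ a = 0 by linear_combination h1)).resolve_right ha'
    have hs : s = 0 := f.σ_eq_zero.1 ((mul_eq_zero.1
      (show f.σ s * (γ + f.σ γ) = 0 by linear_combination h3 - h2 + f.σ γ * hst)).resolve_right hγ)
    subst hs
    have ht : t = 0 := f.σ_eq_zero.1 (by simpa using hst)
    subst ht
    exact ⟨f.σ_eq_zero.1 ((mul_eq_zero.1 (by simpa using h2)).resolve_right ha), rfl, rfl⟩
  have hmem : ∀ i, ![e, x, y] i ∈ Submodule.span F (Set.range ![e, x, y]) := fun i =>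
    Submodule.subset_span ⟨i, rfl⟩
  refine ⟨?_, ?_⟩
  · rw [Fintype.linearIndependent_iff]
    intro c hc
    rw [Fin.sum_univ_three] at hc
    simp only [Matrix.cons_val_zero, Matrix.cons_val_one, Matrix.cons_val_two, Matrix.head_cons,
      Matrix.tail_cons] at hc
    obtain ⟨h0, h1, h2⟩ := key (c 0) (c 1) (c 2) (by rw [hc]; simp) (by rw [hc]; simp) (by rw [hc]; simp)
    intro i; fin_cases i <;> assumption
  · intro z hz hall
    obtain ⟨c, rfl⟩ := (Submodule.mem_span_range_iff_exists_fun F).1 hz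
    rw [Fin.sum_univ_three] at hall ⊢
    simp only [Matrix.cons_val_zero, Matrix.cons_val_one, Matrix.cons_val_two, Matrix.head_cons,
      Matrix.tail_cons] at hall ⊢
    obtain ⟨h0, h1, h2⟩ := key (c 0) (c 1) (c 2) (hall _ (hmem 0)) (hall _ (hmem 1)) (hall _ (hmem 2))
    simp [h0, h1, h2]

theorem exists_aniso_of_nd {X : Submodule F (Fin n → F)} (hX : Nd f X) (hlt : Module.finrank F X < n) :
    ∃ a, ¬ f.Iso a ∧ ∀ x ∈ X, f.B a x = 0 := by
  obtain ⟨y, hy, hy0⟩ := (Submodule.ne_bot_iff (f.perp X)).1 fun h => by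
    have h2 := f.finrank_perp_ge X
    rw [h, finrank_bot, Fintype.card_fin] at h2
    omega
  by_contra hno
  push Not at hno
  have hiso : ∀ z ∈ f.perp X, f.B z z = 0 := fun z hz => by
    by_contra h
    obtain ⟨x, hx, hne⟩ := hno z h
    exact hne (f.eq_zero_comm (hz x hx))
  obtain ⟨t, ht⟩ := f.exists_moved
  refine hy0 (f.nondeg.1 y fun z => ?_)
  obtain ⟨x, hx, r, hr, rfl⟩ := exists_decomp hX z
  have h1 := hiso (y + r) ((f.perp X).add_mem hy hr)
  have h2 := hiso (y + t • r) ((f.perp X).add_mem hy ((f.perp X).smul_mem t hr))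
  simp only [map_add, LinearMap.map_smulₛₗ, LinearMap.add_apply, LinearMap.smul_apply, map_smul, smul_eq_mul,
    hiso y hy, hiso r hr] at h1 h2
  have h3 : (t - f.σ t) * f.B y r = 0 := by linear_combination h2 - f.σ t * h1
  rw [map_add, f.eq_zero_comm (hy x hx), (mul_eq_zero.1 h3).resolve_left (sub_ne_zero.2 (Ne.symm ht)), add_zero]

/-- Equal patterns are moved into each other by special isometries. -/
theorem exists_frame_map [Finite F] {e x y e' x' y' : Fin n → F} {a γ : F} (hn : 4 ≤ n)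
    (he : f.B e e = 0) (hx : f.B x x = 0) (hy : f.B y y = 0) (hex : f.B e x = a) (hey : f.B e y = a)
    (hxy : f.B x y = γ) (he' : f.B e' e' = 0) (hx' : f.B x' x' = 0) (hy' : f.B y' y' = 0) (hex' : f.B e' x' = a)
    (hey' : f.B e' y' = a) (hxy' : f.B x' y' = γ) (ha : a ≠ 0) (hγ : γ + f.σ γ ≠ 0) :
    ∃ g : GL (Fin n) F, f.Preserves g ∧ g ∈ Cfsg.Geo.specialLinear (Fin n) F ∧
      (g : Matrix (Fin n) (Fin n) F) *ᵥ e = e' ∧ (g : Matrix (Fin n) (Fin n) F) *ᵥ x = x' ∧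
        (g : Matrix (Fin n) (Fin n) F) *ᵥ y = y' := by
  obtain ⟨hind, hnd⟩ := frame he hx hy hex hey hxy ha hγ
  obtain ⟨hind', hnd'⟩ := frame he' hx' hy' hex' hey' hxy' ha hγ
  let B1 := Module.Basis.span hind
  let φ : Submodule.span F (Set.range ![e, x, y]) →ₗ[F] (Fin n → F) := B1.constr F ![e', x', y']
  have hφ : ∀ i, φ (B1 i) = ![e', x', y'] i := fun i => B1.constr_basis F _ i
  have hb : ∀ i, ((B1 i : Submodule.span F (Set.range ![e, x, y])) : Fin n → F) = ![e, x, y] i := fun i =>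
    congrArg Subtype.val (Module.Basis.span_apply hind i)
  have hgr : ∀ i j, f.B (![e', x', y'] i) (![e', x', y'] j) = f.B (![e, x, y] i) (![e, x, y] j) := by
    intro i j
    fin_cases i <;> fin_cases j <;>
      simp [he, hx, hy, hex, hey, hxy, he', hx', hy', hex', hey', hxy', ← f.herm e x, ← f.herm e y, ← f.herm x y,
        ← f.herm e' x', ← f.herm e' y', ← f.herm x' y']
  have hpres : ∀ v w, f.B (φ v) (φ w) = f.B (v : Fin n → F) (w : Fin n → F) := by
    intro v w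
    conv_lhs => rw [← B1.sum_repr v, ← B1.sum_repr w]
    conv_rhs => rw [← B1.sum_repr v, ← B1.sum_repr w]
    simp only [map_sum, map_smul, LinearMap.map_smulₛₗ, LinearMap.sum_apply, LinearMap.smul_apply, hφ,
      Submodule.coe_sum, Submodule.coe_smul, hb, hgr]
  have hrange : ∀ v, φ v ∈ Submodule.span F (Set.range ![e', x', y']) := fun v => by
    rw [← B1.sum_repr v, map_sum]
    exact Submodule.sum_mem _ fun i _ => by
      rw [map_smul, hφ]; exact Submodule.smul_mem _ _ (Submodule.subset_span ⟨i, rfl⟩)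
  obtain ⟨b, hb1, hb2⟩ := exists_aniso_of_nd hnd'
    (by rw [finrank_span_eq_card hind', Fintype.card_fin]; omega)
  have hinj : Function.Injective φ := by
    rw [← LinearMap.ker_eq_bot, LinearMap.ker_eq_bot']
    intro v hv
    refine Subtype.ext (hnd v v.2 fun w hw => ?_)
    rw [← hpres v ⟨w, hw⟩, hv, map_zero, LinearMap.zero_apply]
  obtain ⟨g, hg1, hg2, hg3⟩ := f.witt_special _ φ hinj hpres b hb1 (fun v => hb2 _ (hrange v))
  have h := fun i => hg3 (B1 i)
  simp only [hb, hφ] at h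
  exact ⟨g, hg1, hg2, h 0, h 1, h 2⟩

/-- A ratio generating the norms and a scalar avoiding two traces. -/
theorem exists_scalars [Fintype F] (f : HermF (Fin n) F) :
    ∃ ζ η : F, (∀ r : F, f.σ r = r → r ≠ 0 → ∃ k : ℕ, (f.σ ζ * ζ) ^ k = r) ∧
      ζ ^ 2 * η + f.σ (ζ ^ 2 * η) ≠ 0 ∧ η * (1 - 4 * ζ) + f.σ (η * (1 - 4 * ζ)) ≠ 0 := by
  obtain ⟨ω, hω⟩ := IsCyclic.exists_monoid_generator (α := Fˣ)
  have hgen : ∀ r : F, f.σ r = r → r ≠ 0 → ∃ k : ℕ, (f.σ (ω : F) * ω) ^ k = r := by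
    intro r hr hr0
    obtain ⟨x, hx⟩ := Geometry.exists_mul_conj_eq f.σ_ne f.invol hr
    have hx0 : x ≠ 0 := fun h => hr0 (by rw [← hx, h, mul_zero])
    obtain ⟨k, hk⟩ := Submonoid.mem_powers_iff _ _ |>.1 (hω (Units.mk0 x hx0))
    exact ⟨k, by rw [mul_pow, ← map_pow, ← Units.val_pow_eq_pow_val, hk, Units.val_mk0, hx]⟩
  obtain ⟨ζ, hζ, hζ4⟩ : ∃ ζ : F, f.σ ζ * ζ = f.σ (ω : F) * ω ∧ 4 * ζ ≠ 1 := by
    by_cases h : 4 * (ω : F) = 1
    · obtain ⟨t, ht⟩ := f.exists_moved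
      have ht0 : t ≠ 0 := fun h => ht (by rw [h, map_zero])
      have ht' : f.σ t ≠ 0 := fun h => ht0 (f.σ_eq_zero.1 h)
      refine ⟨ω * (f.σ t / t), ?_, fun h' => ht ?_⟩
      · rw [map_mul, map_div₀, f.invol]; field_simp
      · rw [← mul_assoc, h, one_mul] at h'
        exact (div_eq_one_iff_eq ht0).1 h'
    · exact ⟨ω, rfl, h⟩
  have hζ0 : ζ ≠ 0 := by
    intro h; rw [h, mul_zero] at hζ
    exact mul_ne_zero (fun h => ω.ne_zero (f.σ_eq_zero.1 h)) ω.ne_zero hζ.symm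
  obtain ⟨d, hd⟩ := f.exists_trace (s := (1 : F)) (map_one f.σ)
  set a := ζ ^ 2
  set b := 1 - 4 * ζ
  have ha : a ≠ 0 := pow_ne_zero 2 hζ0
  have hb : b ≠ 0 := sub_ne_zero.2 (Ne.symm hζ4)
  obtain ⟨η, h1, h2⟩ : ∃ η, a * η + f.σ (a * η) ≠ 0 ∧ η * b + f.σ (η * b) ≠ 0 := by
    have k1 : a * (d / a) + f.σ (a * (d / a)) ≠ 0 := by rw [mul_div_cancel₀ d ha, hd]; exact one_ne_zero
    have k2 : d / b * b + f.σ (d / b * b) ≠ 0 := by rw [div_mul_cancel₀ d hb, hd]; exact one_ne_zero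
    by_cases c1 : d / a * b + f.σ (d / a * b) = 0
    · by_cases c2 : a * (d / b) + f.σ (a * (d / b)) = 0
      · refine ⟨d / a + d / b, ?_, ?_⟩
        · rw [mul_add, map_add]
          intro h; exact k1 (by linear_combination h - c2)
        · rw [add_mul, map_add]
          intro h; exact k2 (by linear_combination h - c1)
      · exact ⟨d / b, c2, k2⟩
    · exact ⟨d / a, k1, c1⟩
  exact ⟨ζ, η, fun r hr hr0 => by rw [hζ]; exact hgen r hr hr0, h1, h2⟩

theorem norm_ne_one [Fintype F] {q : ℕ} (hF : Fintype.card F = q ^ 2) (hq : 3 ≤ q) :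
    ∃ a : F, a ≠ 0 ∧ (stdHerm n hF).σ a * a ≠ 1 := by
  obtain ⟨ω, hω⟩ := IsCyclic.exists_monoid_generator (α := Fˣ)
  refine ⟨ω, ω.ne_zero, fun h => ?_⟩
  have h1 : ω ^ (q + 1) = 1 := by
    refine Units.ext ?_
    rw [Units.val_pow_eq_pow_val, Units.val_one, pow_succ]
    exact h
  classical
  have h2 := Nat.le_of_dvd (by omega) (orderOf_dvd_of_pow_eq_one h1)
  rw [orderOf_eq_card_of_forall_mem_powers hω, Nat.card_eq_fintype_card, Fintype.card_units, hF] at h2
  have : 3 * q ≤ q ^ 2 := by nlinarith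
  omega

namespace Reg

variable (R : Reg f m) {u : GL (Fin n) F}
  (hu : ∀ i, (u : Matrix (Fin n) (Fin n) F) *ᵥ R.b i = R.b i + R.b (i + 1))

theorem gram_zero_zero : f.B (R.b 0) (R.b 0) = 0 := by rw [R.gram_first, seqD_zero_zero]

theorem gram_zero_one : f.B (R.b 0) (R.b 1) = seqD f.σ m R.z 0 1 := by
  rw [R.gram_first, seqD_succ, seqD_zero_zero, sub_zero]; rfl

theorem gram_zero_two : f.B (R.b 0) (R.b 2) = seqD f.σ m R.z 0 2 - 2 * seqD f.σ m R.z 0 1 := by
  rw [R.gram_first, seqD_succ, seqD_succ, seqD_succ, seqD_zero_zero]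
  norm_num
  ring

/-- The group is everything when the norms are generated by the ratio of the first two values. -/
theorem exists_full [Fintype F] (hexc : ∃ a : F, a ≠ 0 ∧ f.σ a * a ≠ 1) (hu1 : f.Preserves u)
    (hu : ∀ i, (u : Matrix (Fin n) (Fin n) F) *ᵥ R.b i = R.b i + R.b (i + 1)) {c1 c2 : F}
    (hc1 : seqD f.σ m R.z 0 1 = c1) (hc2 : seqD f.σ m R.z 0 2 = c2) (hc10 : c1 ≠ 0) (hc20 : c2 ≠ 0)
    (hT : c1 ^ 2 / c2 + f.σ (c1 ^ 2 / c2) ≠ 0)
    (hgen : ∀ r : F, f.σ r = r → r ≠ 0 → ∃ k : ℕ, (f.σ (c1 / c2) * (c1 / c2)) ^ k = r) :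
    ∃ g h : GL (Fin n) F, f.Preserves g ∧ g ∈ Cfsg.Geo.specialLinear (Fin n) F ∧ f.Preserves h ∧
      h ∈ Cfsg.Geo.specialLinear (Fin n) F ∧
      FullOn f (Subgroup.closure ({u, g * u * g⁻¹, h * u * h⁻¹} : Set (GL (Fin n) F))) ⊤ := by
  have hm := R.two
  have hdim := R.dim
  obtain ⟨c0, hc00, hc0⟩ := f.exists_trace_zero
  obtain ⟨g, hg1, hg2, hgu⟩ := R.exists_conj_trans hu hc0
  set e := R.b (2 * m) with he_def
  have hei : f.Iso e := R.iso_last
  have he0 : e ≠ 0 := by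
    rw [he_def, b, dif_pos (by omega)]
    exact R.B0.ne_zero _
  have hee : f.B e e = 0 := hei
  have hE0 := R.E_ne
  have hue : (u : Matrix (Fin n) (Fin n) F) *ᵥ e = e := R.u_last hu
  -- the vector `x`
  set P := 2 * m - 2 with hP
  set Q := 2 * m - 1 with hQ
  obtain ⟨hq, hhq⟩ : ∃ hq, hq = f.B (R.b 0) (R.b Q) := ⟨_, rfl⟩
  obtain ⟨hp, hhp⟩ : ∃ hp, hp = f.B (R.b 0) (R.b P) := ⟨_, rfl⟩
  obtain ⟨pp, hpp⟩ : ∃ pp, pp = f.B (R.b P) (R.b P) := ⟨_, rfl⟩
  obtain ⟨β, hβ⟩ : ∃ β, β = f.σ c1 / f.σ c2 := ⟨_, rfl⟩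
  obtain ⟨γ, hγ⟩ : ∃ γ, γ = β * f.σ c1 := ⟨_, rfl⟩
  obtain ⟨l, hl⟩ : ∃ l, l = f.σ c1 / R.E := ⟨_, rfl⟩
  have hσc1 : f.σ c1 ≠ 0 := fun h => hc10 (f.σ_eq_zero.1 h)
  have hσc2 : f.σ c2 ≠ 0 := fun h => hc20 (f.σ_eq_zero.1 h)
  have hγT : γ + f.σ γ ≠ 0 := by
    intro h; apply hT
    rw [hγ, hβ, map_mul, map_div₀, f.invol, f.invol] at h
    rw [map_div₀, map_pow]
    linear_combination h
  have hl0 : l ≠ 0 := by rw [hl]; exact div_ne_zero hσc1 hE0
  have hlσ : f.σ l ≠ 0 := fun h => hl0 (f.σ_eq_zero.1 h)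
  obtain ⟨G, hG⟩ : ∃ G, G = γ / (f.σ l * l) := ⟨_, rfl⟩
  obtain ⟨δ, hδ⟩ : ∃ δ, δ = (f.σ G - f.σ c1) / R.E := ⟨_, rfl⟩
  obtain ⟨θ, hθ⟩ : ∃ θ, θ = -(δ * hq / R.E) := ⟨_, rfl⟩
  obtain ⟨s, hs⟩ : ∃ s, s = δ * hp + θ * hq + f.σ (δ * hp + θ * hq) + f.σ δ * δ * pp := ⟨_, rfl⟩
  obtain ⟨ε', hε⟩ := f.exists_trace (s := -s) (by
    rw [hs]; simp only [map_neg, map_add, map_mul, f.invol, hpp, f.herm]; ring)
  obtain ⟨ε, hεdef⟩ : ∃ ε, ε = ε' / R.E := ⟨_, rfl⟩
  have hεE : ε * R.E = ε' := by rw [hεdef, div_mul_cancel₀ _ hE0]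
  have hεσ : f.σ ε * R.E = f.σ ε' := by rw [← hεE, map_mul, R.σE]
  set x := l • (R.b 0 + δ • R.b P + θ • R.b Q + ε • e) with hx_def
  set y := (u : Matrix (Fin n) (Fin n) F) *ᵥ x with hy_def
  have e0 : f.B e (R.b 0) = R.E := by rw [he_def, R.gram_anti (by omega), pow_mul, neg_one_sq, one_pow, one_mul]
  have e0' : f.B (R.b 0) e = R.E := by rw [he_def, R.gram_anti (by omega), pow_zero, one_mul]
  have q1 : f.B (R.b Q) (R.b 1) = -R.E := by
    rw [R.gram_anti (by omega), Odd.neg_one_pow ⟨m - 1, by omega⟩, neg_one_mul]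
  have p1' : f.B (R.b 1) (R.b P) = R.E - hq := by
    have h := R.gram_inv 0 P
    rw [← R.gram, ← R.gram, ← R.gram, show P + 1 = Q by omega, Nat.zero_add, ← hhq] at h
    rw [R.gram_anti (i := 1) (j := Q) (by omega), pow_one, neg_one_mul] at h
    linear_combination h
  have p1 : f.B (R.b P) (R.b 1) = R.E - f.σ hq := by rw [← f.herm, p1', map_sub, R.σE]
  have z00 := R.gram_zero_zero
  have z01 : f.B (R.b 0) (R.b 1) = c1 := R.gram_zero_one.trans hc1
  have q0 : f.B (R.b Q) (R.b 0) = f.σ hq := by rw [hhq, f.herm]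
  have p0 : f.B (R.b P) (R.b 0) = f.σ hp := by rw [hhp, f.herm]
  have pq : f.B (R.b P) (R.b Q) = 0 := R.gram_out (by omega)
  have qp : f.B (R.b Q) (R.b P) = 0 := R.gram_out (by omega)
  have qq : f.B (R.b Q) (R.b Q) = 0 := R.gram_out (by omega)
  have pe : f.B (R.b P) e = 0 := R.gram_out (by omega)
  have ep : f.B e (R.b P) = 0 := R.gram_out (by omega)
  have qe : f.B (R.b Q) e = 0 := R.gram_out (by omega)
  have eq' : f.B e (R.b Q) = 0 := R.gram_out (by omega)
  have e1 : f.B e (R.b 1) = 0 := R.gram_out (by omega)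
  have hex : f.B e x = f.σ c1 := by
    simp only [hx_def, map_smul, map_add, e0, ep, eq', hee, smul_eq_mul, mul_zero, add_zero, hl]
    rw [div_mul_cancel₀ _ hE0]
  have hxx : f.B x x = 0 := by
    simp only [hx_def, map_smul, map_add, LinearMap.map_smulₛₗ, LinearMap.add_apply, LinearMap.smul_apply, e0, e0',
      z00, q0, p0, ← hhq, ← hhp, ← hpp, pq, qp, qq, pe, ep, qe, eq', hee, smul_eq_mul, mul_zero, add_zero, zero_add]
    rw [hs, map_add, map_mul, map_mul] at hε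
    linear_combination (l * f.σ l) * (hε + hεE + hεσ)
  have hy : y = x + l • (R.b 1 + δ • R.b Q + θ • e) := by
    simp only [hy_def, hx_def, Matrix.mulVec_smul, Matrix.mulVec_add, hu, hue, he_def,
      show P + 1 = Q by omega, show Q + 1 = 2 * m by omega, R.b_out (i := 2 * m + 1) hdim.le, Nat.zero_add]
    module
  have hxy : f.B x y = γ := by
    rw [hy, map_add, hxx, zero_add]
    simp only [hx_def, map_smul, map_add, LinearMap.map_smulₛₗ, LinearMap.add_apply, LinearMap.smul_apply, e0', z01,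
      q1, p1, ← hhq, pq, qq, pe, qe, eq', e1, hee, smul_eq_mul, mul_zero, add_zero, zero_add]
    have hθE : θ * R.E = -(δ * hq) := by rw [hθ]; field_simp
    have hθσ : f.σ θ * R.E = -(f.σ δ * f.σ hq) := by
      rw [← R.σE, ← map_mul, hθE, map_neg, map_mul]
    have hδE : f.σ δ * R.E = G - c1 := by
      rw [hδ, map_div₀, map_sub, f.invol, f.invol, R.σE, div_mul_cancel₀ _ hE0]
    have hGl : G * (f.σ l * l) = γ := by rw [hG, div_mul_cancel₀ _ (mul_ne_zero hlσ hl0)]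
    linear_combination (f.σ l * l) * (hθE - hθσ + hδE) + hGl
  have hey : f.B e y = f.σ c1 := by
    rw [hy, map_add, hex, map_smul, map_add, map_add, map_smul, map_smul, e1, eq', hee]; simp
  have hyy : f.B y y = 0 := by rw [hy_def, hu1, hxx]
  -- the target vectors
  set ui : Matrix (Fin n) (Fin n) F := ((u⁻¹ : GL (Fin n) F) : Matrix (Fin n) (Fin n) F) with hui
  have huv : ∀ w, (u : Matrix (Fin n) (Fin n) F) *ᵥ (ui *ᵥ w) = w := fun w => by
    rw [hui, Matrix.mulVec_mulVec, ← Units.val_mul, mul_inv_cancel, Units.val_one, Matrix.one_mulVec]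
  set p := ui *ᵥ R.b 0 with hp_def
  set r := β • ui *ᵥ p with hr_def
  have hpp' : f.B p p = 0 := by rw [← hu1, hp_def, huv, z00]
  have hrr : f.B r r = 0 := by
    simp only [hr_def, LinearMap.map_smulₛₗ, LinearMap.smul_apply, map_smul, smul_eq_mul]
    rw [← hu1 (ui *ᵥ p), huv, hpp', mul_zero, mul_zero]
  have hfp : f.B (R.b 0) p = f.σ c1 := by
    rw [← hu1, hp_def, huv, hu, map_add, LinearMap.add_apply, z00, zero_add, Nat.zero_add, ← f.herm, z01]
  have hfr : f.B (R.b 0) r = f.σ c1 := by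
    rw [hr_def, map_smul, ← hu1, huv, ← hu1, hp_def, huv, hu, Matrix.mulVec_add, hu, hu]
    simp only [Nat.zero_add, map_add, LinearMap.add_apply, z00, ← f.herm (R.b 0) (R.b 1), z01,
      ← f.herm (R.b 0) (R.b (1 + 1)), R.gram_zero_two, hc1, hc2, map_sub, map_mul, map_ofNat, smul_eq_mul, hβ]
    field_simp
    ring
  have hpr : f.B p r = γ := by
    rw [hr_def, map_smul, ← hu1, huv, hp_def, huv, ← hp_def, hfp, smul_eq_mul, hγ]
  obtain ⟨h0, hh1, hh2, hhe, hhx, hhy⟩ :=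
    exists_frame_map (by omega) hee hxx hyy hex hey hxy z00 hpp' hrr hfp hfr hpr hσc1 hγT
  refine ⟨g, h0⁻¹, hg1, hg2, hh1.inv, Subgroup.inv_mem _ hh2, ?_⟩
  set K := Subgroup.closure ({u, g * u * g⁻¹, h0⁻¹ * u * h0⁻¹⁻¹} : Set (GL (Fin n) F)) with hKdef
  rw [inv_inv] at hKdef
  set v := h0⁻¹ * u * h0 with hv_def
  have huK : u ∈ K := hKdef ▸ Subgroup.subset_closure (by simp)
  have htK : g * u * g⁻¹ ∈ K := hKdef ▸ Subgroup.subset_closure (by simp)
  have hvK : v ∈ K := hKdef ▸ Subgroup.subset_closure (by simp)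
  have hKf : ∀ k ∈ K, f.Preserves k := by
    intro k hk
    rw [hKdef] at hk
    induction hk using Subgroup.closure_induction with
    | mem k hk =>
      rcases hk with rfl | rfl | rfl
      · exact hu1
      · exact (hg1.mul hu1).mul hg1.inv
      · exact (hh1.inv.mul hu1).mul hh1
    | one => intro a b; simp
    | mul a b _ _ ha hb => exact ha.mul hb
    | inv a _ ha => exact ha.inv
  have hcancel : ∀ (k : GL (Fin n) F) w, ((k⁻¹ : GL (Fin n) F) : Matrix (Fin n) (Fin n) F) *ᵥ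
      ((k : Matrix (Fin n) (Fin n) F) *ᵥ w) = w := fun k w => by
    rw [Matrix.mulVec_mulVec, ← Units.val_mul, inv_mul_cancel, Units.val_one, Matrix.one_mulVec]
  have hve : ((v⁻¹ : GL (Fin n) F) : Matrix (Fin n) (Fin n) F) *ᵥ e = x := by
    rw [hv_def, _root_.mul_inv_rev, _root_.mul_inv_rev, inv_inv, Units.val_mul, Units.val_mul, ← Matrix.mulVec_mulVec,
      ← Matrix.mulVec_mulVec, hhe, ← hui, ← hp_def, ← hhx, hcancel]
  have hvy : (v : Matrix (Fin n) (Fin n) F) *ᵥ ((v : Matrix (Fin n) (Fin n) F) *ᵥ y) = β • e := by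
    rw [Matrix.mulVec_mulVec, ← Units.val_mul, show v * v = h0⁻¹ * (u * u) * h0 by rw [hv_def]; group,
      Units.val_mul, Units.val_mul, Units.val_mul, ← Matrix.mulVec_mulVec, ← Matrix.mulVec_mulVec,
      ← Matrix.mulVec_mulVec, hhy, hr_def]
    simp only [Matrix.mulVec_smul]
    rw [huv, hp_def, huv, ← hhe, hcancel]
  obtain ⟨W, hW⟩ : ∃ W, W = v * v * u * v⁻¹ := ⟨_, rfl⟩
  have hWK : W ∈ K := hW ▸ K.mul_mem (K.mul_mem (K.mul_mem hvK hvK) huK) (K.inv_mem hvK)
  have hWe : (W : Matrix (Fin n) (Fin n) F) *ᵥ e = β • e := by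
    rw [hW, Units.val_mul, Units.val_mul, Units.val_mul, ← Matrix.mulVec_mulVec, ← Matrix.mulVec_mulVec,
      ← Matrix.mulVec_mulVec, hve, ← hy_def, hvy]
  have hbase : f.trans e hei c0 ∈ K := by
    have := K.mul_mem htK (K.inv_mem huK)
    rwa [hgu, mul_inv_cancel_right] at this
  have hscale : ∀ c, f.trans e hei c ∈ K → f.trans e hei (c * (f.σ β * β)) ∈ K := by
    intro c hc
    have := K.mul_mem (K.mul_mem hWK hc) (K.inv_mem hWK)
    rw [f.conj_trans (hKf W hWK)] at this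
    convert this using 1
    refine Units.ext (eq_of_mulVec_eq fun w => ?_)
    simp only [f.trans_mulVec, hWe, LinearMap.map_smulₛₗ, LinearMap.smul_apply, smul_smul, smul_eq_mul]
    congr 2
    ring
  have hpow : ∀ k : ℕ, f.trans e hei (c0 * (f.σ β * β) ^ k) ∈ K := by
    intro k
    induction k with
    | zero => simpa using hbase
    | succ k ih => rw [pow_succ, ← mul_assoc]; exact hscale _ ih
  have hβν : f.σ β * β = f.σ (c1 / c2) * (c1 / c2) := by
    rw [hβ, map_div₀, map_div₀, f.invol, f.invol]; ring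
  have hce : f.Ctr K e := by
    refine ⟨hei, fun c hc => ?_⟩
    rcases eq_or_ne c 0 with rfl | hc'
    · rw [show f.trans e hei 0 = 1 from Units.ext (eq_of_mulVec_eq fun w => by simp [f.trans_mulVec])]
      exact K.one_mem
    obtain ⟨k, hk⟩ := hgen (c / c0)
      (by rw [map_div₀, eq_neg_of_add_eq_zero_right hc, eq_neg_of_add_eq_zero_right hc0, neg_div_neg_eq])
      (div_ne_zero hc' hc00)
    have := hpow k
    rwa [hβν, hk, mul_div_cancel₀ _ hc00] at this
  have hcx : f.Ctr K x := hve ▸ hce.of_conj (K.inv_mem hvK) (hKf _ (K.inv_mem hvK))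
  have hcy : f.Ctr K y := hcx.of_conj huK hu1
  obtain ⟨x', hx'⟩ : ∃ x', x' = (f.σ c1)⁻¹ • x := ⟨_, rfl⟩
  have hcx' : f.Ctr K x' := hx' ▸ hcx.smul _
  have hex' : f.B e x' = 1 := by rw [hx', map_smul, hex, smul_eq_mul, inv_mul_cancel₀ hσc1]
  set X := Submodule.span F ({e, x'} : Set (Fin n → F)) with hX
  have heX : e ∈ X := Submodule.subset_span (by simp)
  have hx'X : x' ∈ X := Submodule.subset_span (by simp)
  have hxX : x ∈ X := by
    have : f.σ c1 • x' ∈ X := X.smul_mem _ hx'X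
    rwa [hx', smul_smul, mul_inv_cancel₀ hσc1, one_smul] at this
  have hxe : f.B x e = c1 := by rw [← f.herm, hex, f.invol]
  have hndX : Nd f X := by
    intro z hz hall
    obtain ⟨a, b, rfl⟩ := Submodule.mem_span_pair.1 hz
    have h1 := hall e heX
    have h2 := hall x' hx'X
    simp only [map_add, LinearMap.map_smulₛₗ, LinearMap.add_apply, LinearMap.smul_apply, hee, hex',
      isoEq hcx'.1, show f.B x' e = 1 by rw [← f.herm, hex', map_one], smul_eq_mul, mul_zero, mul_one, zero_add,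
      add_zero] at h1 h2
    rw [f.σ_eq_zero.1 h1, f.σ_eq_zero.1 h2]; simp
  obtain ⟨x0, hx0⟩ : ∃ x0, x0 = (γ / c1) • e + x := ⟨_, rfl⟩
  have hx0X : x0 ∈ X := hx0 ▸ X.add_mem (X.smul_mem _ heX) hxX
  have hr0 : y - x0 ∈ f.perp X := by
    intro w hw
    obtain ⟨a, b, rfl⟩ := Submodule.mem_span_pair.1 hw
    have k1 : f.B e (y - x0) = 0 := by
      rw [hx0, map_sub, map_add, map_smul, hey, hee, hex]; simp
    have k2 : f.B x (y - x0) = 0 := by
      rw [hx0, map_sub, map_add, map_smul (f.B x), hxy, hxe, hxx, add_zero, smul_eq_mul, div_mul_cancel₀ _ hc10, sub_self]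
    simp [hx', k1, k2]
  have hx0n : f.B x0 x0 ≠ 0 := by
    rw [hx0]
    simp only [map_add, LinearMap.map_smulₛₗ, LinearMap.add_apply, LinearMap.smul_apply, map_smul, hee, hex, hxe,
      hxx, smul_eq_mul, mul_zero, zero_add, add_zero, map_div₀]
    rw [div_mul_cancel₀ _ hc10, div_mul_cancel₀ _ hσc1]
    exact hγT
  obtain ⟨Y, hXY, hndY, hfullY, hlt⟩ := step hndX (fullOn_plane hce hcx' (by rw [hex']; exact one_ne_zero))
    (reach_plane hce hcx' hex') hKf hcy hx0X hr0 (add_sub_cancel x0 y) hx0n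
  have h2X : 2 ≤ Module.finrank F X := by
    have hind : LinearIndependent F ![e, x'] := by
      rw [LinearIndependent.pair_iff]
      intro a b hab
      constructor
      · have := congrArg (f.B x') hab
        simpa [map_add, map_smul, isoEq hcx'.1, show f.B x' e = 1 by rw [← f.herm, hex', map_one]] using this
      · have := congrArg (f.B e) hab
        simpa [map_add, map_smul, hee, hex'] using this
    have := finrank_span_eq_card hind
    rw [Matrix.range_cons, Matrix.range_cons, Matrix.range_empty, Set.union_empty, Set.singleton_union,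
      Fintype.card_fin, ← hX] at this
    omega
  exact full_top hndY hfullY (by omega) (Or.inr hexc) hKf
    (R.span_centres hKf huK (R.fixed hu) (R.nil hu) hcx (by rw [hxe]; exact hc10))
    (hXY heX) he0 hei huK hue (R.fixed hu) (R.nil hu)

end Reg

theorem gen3_big {F : Type*} [Field F] [Fintype F] {q n m : ℕ} (hF : Fintype.card F = q ^ 2) (hq : 3 ≤ q)
    (hn : n = 2 * m + 1) (hm : 2 ≤ m) : Gen3 n F q := by
  let f := stdHerm n hF
  have hexc := norm_ne_one (n := n) hF hq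
  obtain ⟨ζ, η, hgen, hT1, hT2⟩ := exists_scalars f
  obtain ⟨d, hd⟩ := f.exists_trace (s := (1 : F)) (map_one f.σ)
  let z : ℕ → F := fun j =>
    if j = 1 then ζ * η else if j = 2 then η - 3 * (ζ * η) - f.σ (ζ * η) else if j = m then d else 0
  have hz : z m + f.σ (z m) ≠ 0 := by
    rcases eq_or_lt_of_le hm with h | h
    · intro he
      apply hT2
      simp only [z, ← h] at he
      norm_num at he
      rw [map_ofNat f.σ 3, f.invol, f.invol] at he
      simp only [map_sub, map_mul, map_one, map_ofNat]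
      linear_combination he
    · simp only [z, if_neg (show m ≠ 1 by omega), if_neg (show m ≠ 2 by omega), if_true]
      rw [hd]; exact one_ne_zero
  obtain ⟨R, hR⟩ := exists_reg f hn hm z hz
  obtain ⟨u, hu1, hu2, hu⟩ := R.exists_u
  have hc1 : seqD f.σ m R.z 0 1 = ζ * η := by
    have := seqD_zero_nat f.σ m z (k := 1) le_rfl
    rw [hR]
    simpa [show 1 ≤ m by omega, z, Finset.Icc_self] using this
  have hc2 : seqD f.σ m R.z 0 2 = η := by
    have := seqD_zero_nat f.σ m z (k := 2) (by omega)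
    rw [hR]
    rw [Finset.sum_Icc_succ_top (by omega), Finset.Icc_self, Finset.sum_singleton, if_pos (by omega),
      if_pos (by omega)] at this
    rw [show ((2 : ℕ) : ℤ) = 2 from rfl] at this
    rw [this]
    simp [z, Nat.choose]
    ring
  have hη : η ≠ 0 := fun h => hT2 (by simp [h])
  have hζ : ζ ≠ 0 := fun h => hT1 (by simp [h])
  obtain ⟨g, h, hg1, hg2, hh1, hh2, hfull⟩ := R.exists_full hexc hu1 hu hc1 hc2 (mul_ne_zero hζ hη) hη
    (by rw [mul_pow, show η ^ 2 = η * η from pow_two η, ← mul_assoc, mul_div_assoc, div_self hη, mul_one]; exact hT1)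
    (by rw [mul_div_assoc, div_self hη, mul_one]; exact hgen)
  exact finish hF (by omega) hu1 hu2 hg1 hg2 hh1 hh2 (R.nil hu) (R.regular hu) hfull

end Cfsg.Agent.Lib.SuOddGen
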