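import Cfsg.Agent.Lib.MaxSub.UnitaryStd
import Cfsg.Agent.Lib.Geometry.UnitaryGen
import Mathlib

/-!
Spreading the centres of unitary transvections from a non-degenerate subspace to the whole space.
-/

set_option autoImplicit false
set_option linter.unusedSectionVars false
set_option linter.unusedSimpArgs false

namespace Cfsg.Agent.Lib.SuOddGen

open Matrix
open Cfsg.Agent.Lib.MaxSub

variable {ι : Type} [Fintype ι] [DecidableEq ι] {F : Type*} [Field F] (f : HermF ι F) (K : Subgroup (GL ι F))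

/-- All isotropic vectors of the subspace are centres. -/
def FullOn (X : Submodule F (ι → F)) : Prop := ∀ w ∈ X, f.Iso w → f.Ctr K w

/-- The subspace is non-degenerate. -/
def Nd (X : Submodule F (ι → F)) : Prop := ∀ x ∈ X, (∀ y ∈ X, f.B x y = 0) → x = 0

/-- Vectors of the same nonzero norm are moved into each other, fixing the orthogonal space. -/
def Reach (X : Submodule F (ι → F)) : Prop :=
  ∀ x ∈ X, ∀ x' ∈ X, f.B x x = f.B x' x' → f.B x x ≠ 0 →
    ∃ g ∈ K, (g : Matrix ι ι F) *ᵥ x = x' ∧ ∀ r ∈ f.perp X, (g : Matrix ι ι F) *ᵥ r = r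

variable {f} {K}

theorem isoEq {w : ι → F} (h : f.Iso w) : f.B w w = 0 := h

theorem trans_fix {X : Submodule F (ι → F)} {u : ι → F} (huX : u ∈ X) (hu : f.Iso u) (c : F) {r : ι → F}
    (hr : r ∈ f.perp X) : (f.trans u hu c : Matrix ι ι F) *ᵥ r = r := by
  rw [f.trans_mulVec, hr u huX, mul_zero, zero_smul, add_zero]

theorem fullOn_plane {e e' : ι → F} (he : f.Ctr K e) (he' : f.Ctr K e') (hee : f.B e e' ≠ 0) :
    FullOn f K (Submodule.span F {e, e'}) := by
  intro z hz hiso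
  obtain ⟨a, b, rfl⟩ := Submodule.mem_span_pair.1 hz
  rcases eq_or_ne a 0 with rfl | ha
  · rw [zero_smul, zero_add]; exact he'.smul b
  rcases eq_or_ne b 0 with rfl | hb
  · rw [zero_smul, add_zero]; exact he.smul a
  refine (he.smul a).add (he'.smul b) ?_ hiso
  simp only [LinearMap.map_smulₛₗ, LinearMap.smul_apply, map_smul, smul_eq_mul]
  exact mul_ne_zero hb (mul_ne_zero (fun h => ha (f.σ_eq_zero.1 h)) hee)

theorem reach_plane [Finite F] {e e' : ι → F} (he : f.Ctr K e) (he' : f.Ctr K e') (hee : f.B e e' = 1) :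
    Reach f K (Submodule.span F {e, e'}) := by
  obtain ⟨hei, hec⟩ := he
  obtain ⟨hei', hec'⟩ := he'
  have h00 : f.B e e = 0 := hei
  have h11 : f.B e' e' = 0 := hei'
  have h10 : f.B e' e = 1 := by rw [← f.herm e e', hee, map_one]
  set X := Submodule.span F ({e, e'} : Set (ι → F)) with hX
  have heX : e ∈ X := Submodule.subset_span (by simp)
  have heX' : e' ∈ X := Submodule.subset_span (by simp)
  have hnorm : ∀ a b : F, f.B (a • e + b • e') (a • e + b • e') = f.σ a * b + a * f.σ b := fun a b => by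
    simp [LinearMap.map_smulₛₗ, h00, h11, hee, h10]; ring
  have key : ∀ a b a2 b2 : F, f.σ a * b + a * f.σ b = f.σ a2 * b2 + a2 * f.σ b2 →
      f.σ a * b + a * f.σ b ≠ 0 → b * f.σ b2 ≠ f.σ b * b2 →
      ∃ g ∈ K, (g : Matrix ι ι F) *ᵥ (a • e + b • e') = a2 • e + b2 • e' ∧
        ∀ r ∈ f.perp X, (g : Matrix ι ι F) *ᵥ r = r := by
    intro a b a2 b2 hs hs0 hind
    set s := f.σ a * b + a * f.σ b with hsdef
    have hD : b * f.σ b2 - f.σ b * b2 ≠ 0 := sub_ne_zero.2 hind
    have hb : b ≠ 0 := fun h => hind (by simp [h])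
    have hb2 : b2 ≠ 0 := fun h => hind (by simp [h])
    set D := b * f.σ b2 - f.σ b * b2 with hDdef
    set a1 := s * (b - b2) / D with ha1
    have hsσ : f.σ s = s := by rw [hsdef, map_add, map_mul, map_mul, f.invol, f.invol]; ring
    have hDσ : f.σ D = -D := by rw [hDdef, map_sub, map_mul, map_mul, f.invol, f.invol]; ring
    have ha1σ : f.σ a1 = s * (f.σ b2 - f.σ b) / D := by
      rw [ha1, map_div₀, map_mul, map_sub, hsσ, hDσ]; field_simp; ring
    have e1 : f.σ a1 * b + a1 * f.σ b = s := by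
      rw [ha1σ, ha1]; field_simp; rw [hDdef]; ring
    have e2 : f.σ a1 * b2 + a1 * f.σ b2 = s := by
      rw [ha1σ, ha1]; field_simp; rw [hDdef]; ring
    have ha10 : a1 ≠ 0 := fun h => hs0 (by rw [← e1, h]; simp)
    have hb' : f.σ b ≠ 0 := fun h => hb (f.σ_eq_zero.1 h)
    have hb2' : f.σ b2 ≠ 0 := fun h => hb2 (f.σ_eq_zero.1 h)
    have ha1' : f.σ a1 ≠ 0 := fun h => ha10 (f.σ_eq_zero.1 h)
    have hc1 : (a1 - a) / b + f.σ ((a1 - a) / b) = 0 := by
      rw [map_div₀, map_sub]; field_simp; linear_combination e1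
    have hc2 : (b2 - b) / a1 + f.σ ((b2 - b) / a1) = 0 := by
      rw [map_div₀, map_sub]; field_simp; linear_combination e2 - e1
    have hc3 : (a2 - a1) / b2 + f.σ ((a2 - a1) / b2) = 0 := by
      rw [map_div₀, map_sub]; field_simp; linear_combination -hs - e2
    refine ⟨f.trans e hei ((a2 - a1) / b2) * f.trans e' hei' ((b2 - b) / a1) * f.trans e hei ((a1 - a) / b),
      K.mul_mem (K.mul_mem (hec _ hc3) (hec' _ hc2)) (hec _ hc1), ?_, fun r hr => ?_⟩
    · simp only [Units.val_mul, ← Matrix.mulVec_mulVec, HermF.trans_mulVec, map_add, map_smul, h00, h11, hee, h10,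
        smul_eq_mul, mul_zero, mul_one, zero_add, add_zero]
      match_scalars <;> field_simp <;> ring
    · simp only [Units.val_mul, ← Matrix.mulVec_mulVec, trans_fix heX hei _ hr, trans_fix heX' hei' _ hr]
  intro x hx x' hx' hN hN0
  obtain ⟨a, b, rfl⟩ := Submodule.mem_span_pair.1 hx
  obtain ⟨a2, b2, rfl⟩ := Submodule.mem_span_pair.1 hx'
  rw [hnorm, hnorm] at hN
  rw [hnorm] at hN0
  by_cases hind : b * f.σ b2 ≠ f.σ b * b2
  · exact key a b a2 b2 hN hN0 hind
  push Not at hind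
  have hb : b ≠ 0 := fun h => hN0 (by simp [h])
  have hb2 : b2 ≠ 0 := fun h => hN0 (by rw [hN, h]; simp)
  obtain ⟨t, ht⟩ := f.exists_moved
  set b3 := b * t with hb3
  have hb' : f.σ b ≠ 0 := fun h => hb (f.σ_eq_zero.1 h)
  have h3 : b * f.σ b3 ≠ f.σ b * b3 := by
    rw [hb3, map_mul]; intro h
    exact ht (mul_left_cancel₀ (mul_ne_zero hb hb') (by linear_combination h))
  have h3' : b3 * f.σ b2 ≠ f.σ b3 * b2 := by
    rw [hb3, map_mul]; intro h
    exact ht (mul_left_cancel₀ (mul_ne_zero hb' hb2) (by linear_combination t * hind - h))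
  have hb30 : b3 ≠ 0 := fun h => h3 (by simp [h])
  set s := f.σ a * b + a * f.σ b with hs
  obtain ⟨d, hd⟩ := f.exists_trace (s := s) (by rw [hs, map_add, map_mul, map_mul, f.invol, f.invol]; ring)
  set a3 := f.σ (d / b3) with ha3
  have e3 : f.σ a3 * b3 + a3 * f.σ b3 = s := by
    have hb3' : f.σ b3 ≠ 0 := fun h => hb30 (f.σ_eq_zero.1 h)
    rw [ha3, f.invol, map_div₀]; field_simp; linear_combination hd
  obtain ⟨g1, hg1, hg1x, hg1r⟩ := key a b a3 b3 e3.symm hN0 h3
  obtain ⟨g2, hg2, hg2x, hg2r⟩ := key a3 b3 a2 b2 (e3.trans hN) (by rw [e3]; exact hN0) h3'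
  refine ⟨g2 * g1, K.mul_mem hg2 hg1, ?_, fun r hr => ?_⟩
  · rw [Units.val_mul, ← Matrix.mulVec_mulVec, hg1x, hg2x]
  · rw [Units.val_mul, ← Matrix.mulVec_mulVec, hg1r r hr, hg2r r hr]

theorem reach_big [Finite F] {X : Submodule F (ι → F)} (hX : Nd f X) (hfull : FullOn f K X)
    (h3 : 3 ≤ Module.finrank F X) (hexc : 4 ≤ Module.finrank F X ∨ ∃ a : F, a ≠ 0 ∧ f.σ a * a ≠ 1) :
    Reach f K X := by
  set BX : X →ₛₗ[f.σ] X →ₗ[F] F := LinearMap.mk₂'ₛₗ f.σ (RingHom.id F)
    (fun u v => f.B (u : ι → F) (v : ι → F)) (fun a b v => by simp) (fun c a v => by simp [LinearMap.map_smulₛₗ])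
    (fun u a b => by simp) (fun c u v => by simp) with hBX
  have hS : BX.IsSymm := ⟨fun u v => f.herm _ _⟩
  have hB : BX.Nondegenerate :=
    ⟨fun u hu => Subtype.ext (hX u u.2 fun y hy => hu ⟨y, hy⟩),
      fun v hv => Subtype.ext (hX v v.2 fun y hy => f.eq_zero_comm (hv ⟨y, hy⟩))⟩
  have hlift : ∀ t ∈ Geometry.uTransvectionGroup BX, ∃ g ∈ K,
      (∀ x : X, (g : Matrix ι ι F) *ᵥ (x : ι → F) = ((t : X ≃ₗ[F] X) x : ι → F)) ∧
      ∀ r ∈ f.perp X, (g : Matrix ι ι F) *ᵥ r = r := by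
    intro t ht
    induction ht using Subgroup.closure_induction with
    | mem t ht =>
      obtain ⟨w, c, hw, htw⟩ := ht
      rcases eq_or_ne w 0 with rfl | hw0
      · exact ⟨1, K.one_mem, fun x => by rw [htw, smul_zero, add_zero, Units.val_one, Matrix.one_mulVec],
          fun r _ => by rw [Units.val_one, Matrix.one_mulVec]⟩
      have hwiso : f.Iso (w : ι → F) := hw
      obtain ⟨y, hy⟩ : ∃ y : X, BX w y = 1 := by
        obtain ⟨y, hy⟩ : ∃ y : X, BX w y ≠ 0 := by
          by_contra h; push Not at h; exact hw0 (hB.1 w h)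
        exact ⟨(BX w y)⁻¹ • y, by rw [map_smul, smul_eq_mul, inv_mul_cancel₀ hy]⟩
      have hc : c + f.σ c = 0 := by
        have h := Geometry.mem_sesqIsometries.mp t.2 y y
        rw [htw, hy, mul_one] at h
        simp only [map_add, LinearMap.map_smulₛₗ, LinearMap.add_apply, LinearMap.smul_apply, map_smul, smul_eq_mul,
          hw, hy, show BX y w = 1 by rw [← hS.eq w y, hy]; simp, mul_one, mul_zero, add_zero] at h
        linear_combination h
      refine ⟨f.trans (w : ι → F) hwiso c, (hfull _ w.2 hwiso).2 c hc, fun x => ?_,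
        fun r hr => trans_fix w.2 hwiso c hr⟩
      rw [f.trans_mulVec, htw]; rfl
    | one => exact ⟨1, K.one_mem, fun x => by rw [Units.val_one, Matrix.one_mulVec]; rfl,
        fun r _ => by rw [Units.val_one, Matrix.one_mulVec]⟩
    | mul t t' _ _ ih ih' =>
      obtain ⟨g, hg, hgx, hgr⟩ := ih
      obtain ⟨g', hg', hgx', hgr'⟩ := ih'
      refine ⟨g * g', K.mul_mem hg hg', fun x => ?_, fun r hr => ?_⟩
      · rw [Units.val_mul, ← Matrix.mulVec_mulVec, hgx', hgx]; rfl
      · rw [Units.val_mul, ← Matrix.mulVec_mulVec, hgr' r hr, hgr r hr]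
    | inv t _ ih =>
      obtain ⟨g, hg, hgx, hgr⟩ := ih
      refine ⟨g⁻¹, K.inv_mem hg, fun x => ?_, fun r hr => ?_⟩
      · conv_lhs => rw [← Geometry.sesq_inv_apply BX t x, ← hgx, Matrix.mulVec_mulVec, ← Units.val_mul,
          inv_mul_cancel, Units.val_one, Matrix.one_mulVec]
      · conv_lhs => rw [← hgr r hr, Matrix.mulVec_mulVec, ← Units.val_mul,
          inv_mul_cancel, Units.val_one, Matrix.one_mulVec]
  intro x hx x' hx' hN hN0
  obtain ⟨k, hk⟩ := Geometry.exists_mul_conj_eq f.σ_ne f.invol (s := f.B x x) (f.herm x x)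
  have hk0 : k ≠ 0 := fun h => hN0 (by rw [← hk, h, mul_zero])
  have hkσ : f.σ k ≠ 0 := fun h => hk0 (f.σ_eq_zero.1 h)
  have hunit : ∀ z : X, f.B (z : ι → F) z = f.σ k * k → BX (k⁻¹ • z) (k⁻¹ • z) = 1 := fun z hz => by
    show f.B (k⁻¹ • (z : ι → F)) (k⁻¹ • (z : ι → F)) = 1
    simp only [LinearMap.map_smulₛₗ, LinearMap.smul_apply, map_smul, smul_eq_mul, hz, map_inv₀]
    field_simp
  obtain ⟨t, ht, htx⟩ := Geometry.exists_uTransvection_map_unit BX f.σ_ne f.invol hS hB h3 hexc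
    (k⁻¹ • ⟨x, hx⟩) (k⁻¹ • ⟨x', hx'⟩) (hunit _ hk.symm) (hunit _ (by rw [← hN]; exact hk.symm))
  rw [map_smul] at htx
  obtain ⟨g, hg, hgx, hgr⟩ := hlift t ht
  exact ⟨g, hg, (hgx ⟨x, hx⟩).trans (congrArg Subtype.val (smul_right_injective X (inv_ne_zero hk0) htx)), hgr⟩

theorem exists_decomp {X : Submodule F (ι → F)} (hX : Nd f X) (w : ι → F) :
    ∃ x ∈ X, ∃ r ∈ f.perp X, x + r = w := by
  have hdisj : X ⊓ f.perp X = ⊥ := eq_bot_iff.2 fun x hx => (Submodule.mem_bot F).2
    (hX x hx.1 fun y hy => f.eq_zero_comm (hx.2 y hy))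
  have htop : X ⊔ f.perp X = ⊤ := by
    refine Submodule.eq_top_of_finrank_eq ?_
    have h1 := Submodule.finrank_sup_add_finrank_inf_eq X (f.perp X)
    rw [hdisj, finrank_bot] at h1
    have h2 := f.finrank_perp_ge X
    have h3 := Submodule.finrank_le (X ⊔ f.perp X)
    rw [Module.finrank_fintype_fun_eq_card] at h3 ⊢
    omega
  exact Submodule.mem_sup.1 (htop ▸ Submodule.mem_top (x := w))

theorem step {X : Submodule F (ι → F)} (hX : Nd f X) (hfull : FullOn f K X) (hreach : Reach f K X)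
    (hKf : ∀ g ∈ K, f.Preserves g) {w x r : ι → F} (hw : f.Ctr K w) (hxX : x ∈ X) (hr : r ∈ f.perp X)
    (hwxr : x + r = w) (hx : f.B x x ≠ 0) :
    ∃ X' : Submodule F (ι → F), X ≤ X' ∧ Nd f X' ∧ FullOn f K X' ∧
      Module.finrank F X < Module.finrank F X' := by
  have hxr : f.B x r = 0 := hr x hxX
  have hrx : f.B r x = 0 := f.eq_zero_comm hxr
  have hsum : f.B x x + f.B r r = 0 := by
    have := isoEq hw.1
    rw [← hwxr] at this
    simp only [map_add, LinearMap.add_apply, hxr, hrx] at this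
    linear_combination this
  have hrr : f.B r r ≠ 0 := fun h => hx (by rw [h, add_zero] at hsum; exact hsum)
  refine ⟨X ⊔ F ∙ r, le_sup_left, ?_, ?_, ?_⟩
  · intro z hz hall
    obtain ⟨a, ha, b, hb, rfl⟩ := Submodule.mem_sup.1 hz
    obtain ⟨c, rfl⟩ := Submodule.mem_span_singleton.1 hb
    have hc : c = 0 := by
      have := hall r (Submodule.mem_sup_right (Submodule.mem_span_singleton_self r))
      simp only [map_add, LinearMap.add_apply, LinearMap.map_smulₛₗ, LinearMap.smul_apply, hr a ha, zero_add,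
        smul_eq_mul] at this
      exact f.σ_eq_zero.1 ((mul_eq_zero.1 this).resolve_right hrr)
    subst hc
    rw [zero_smul, add_zero] at hall ⊢
    exact hX a ha fun y hy => hall y (Submodule.mem_sup_left hy)
  · intro z hz hziso
    obtain ⟨a, ha, b, hb, rfl⟩ := Submodule.mem_sup.1 hz
    obtain ⟨c, rfl⟩ := Submodule.mem_span_singleton.1 hb
    rcases eq_or_ne c 0 with rfl | hc
    · rw [zero_smul, add_zero] at hziso ⊢; exact hfull a ha hziso
    set x' := c⁻¹ • a with hx'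
    have hx'X : x' ∈ X := X.smul_mem _ ha
    have hz' : a + c • r = c • (x' + r) := by rw [smul_add, hx', smul_smul, mul_inv_cancel₀ hc, one_smul]
    rw [hz'] at hziso ⊢
    have hi : f.Iso (x' + r) := by
      have h := HermF.Iso.smul hziso c⁻¹
      rwa [smul_smul, inv_mul_cancel₀ hc, one_smul] at h
    have hN : f.B x x = f.B x' x' := by
      have := isoEq hi
      simp only [map_add, LinearMap.add_apply, hr x' hx'X, f.eq_zero_comm (hr x' hx'X)] at this
      linear_combination hsum - this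
    obtain ⟨g, hg, hgx, hgr⟩ := hreach x hxX x' hx'X hN hx
    refine HermF.Ctr.smul ?_ c
    have h := hw.of_conj hg (hKf g hg)
    rwa [← hwxr, Matrix.mulVec_add, hgx, hgr r hr] at h
  · refine Submodule.finrank_lt_finrank_of_lt (lt_of_le_of_ne le_sup_left fun h => hrr ?_)
    exact f.eq_zero_comm (hr r (h.symm ▸ Submodule.mem_sup_right (Submodule.mem_span_singleton_self r)))

theorem exists_common {X : Submodule F (ι → F)} (hX : Nd f X) [Finite F] {x1 x2 : ι → F} (h1 : x1 ∈ X)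
    (h2 : x2 ∈ X) (h10 : x1 ≠ 0) (h20 : x2 ≠ 0) (i1 : f.Iso x1) (i2 : f.Iso x2) :
    ∃ u ∈ X, f.Iso u ∧ f.B x1 u ≠ 0 ∧ f.B x2 u ≠ 0 := by
  have hp : ∀ x, x ∈ X → x ≠ 0 → f.Iso x → ∃ p ∈ X, f.Iso p ∧ f.B x p = 1 := fun x hx hx0 hi => by
    obtain ⟨z, hz, hxz⟩ : ∃ z ∈ X, f.B x z ≠ 0 := by
      by_contra h; push Not at h; exact hx0 (hX x hx h)
    exact f.exists_partner hx hz hi hxz
  obtain ⟨p, hpX, hpi, hp1⟩ := hp x1 h1 h10 i1
  by_cases hp2 : f.B x2 p ≠ 0
  · exact ⟨p, hpX, hpi, by rw [hp1]; exact one_ne_zero, hp2⟩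
  push Not at hp2
  obtain ⟨p', hpX', hpi', hp2'⟩ := hp x2 h2 h20 i2
  by_cases hp1' : f.B x1 p' ≠ 0
  · exact ⟨p', hpX', hpi', hp1', by rw [hp2']; exact one_ne_zero⟩
  push Not at hp1'
  obtain ⟨c, hc0, hc⟩ := f.exists_trace_zero
  obtain ⟨l, hl0, hl⟩ : ∃ l : F, l ≠ 0 ∧ l * f.B p p' + f.σ (l * f.B p p') = 0 := by
    rcases eq_or_ne (f.B p p') 0 with h | h
    · exact ⟨1, one_ne_zero, by rw [h]; simp⟩
    · exact ⟨c / f.B p p', div_ne_zero hc0 h, by rw [div_mul_cancel₀ _ h]; exact hc⟩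
  refine ⟨p + l • p', X.add_mem hpX (X.smul_mem l hpX'), ?_, ?_, ?_⟩
  · show f.B _ _ = 0
    simp only [map_add, LinearMap.map_smulₛₗ, LinearMap.add_apply, LinearMap.smul_apply, map_smul, smul_eq_mul,
      isoEq hpi, isoEq hpi', ← f.herm p p']
    rw [map_mul] at hl
    linear_combination hl
  · rw [map_add, map_smul, hp1, hp1', smul_zero, add_zero]; exact one_ne_zero
  · rw [map_add, map_smul, hp2, hp2', smul_eq_mul, mul_one, zero_add]; exact hl0

theorem exists_aniso_centre [Finite F] {X : Submodule F (ι → F)} (hX : Nd f X) (hfull : FullOn f K X)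
    (h3 : 3 ≤ Module.finrank F X) (hKf : ∀ g ∈ K, f.Preserves g) (hne : X ≠ ⊤)
    (hspan : Submodule.span F {w | f.Ctr K w} = ⊤) {e : ι → F} {u : GL ι F} (he : e ∈ X) (he0 : e ≠ 0)
    (hei : f.Iso e) (hu : u ∈ K) (hue : (u : Matrix ι ι F) *ᵥ e = e)
    (hfix : ∀ z, (u : Matrix ι ι F) *ᵥ z = z → ∃ c : F, z = c • e)
    (hnil : IsNilpotent ((u : Matrix ι ι F) - 1)) :
    ∃ w x r, f.Ctr K w ∧ x ∈ X ∧ r ∈ f.perp X ∧ x + r = w ∧ f.B x x ≠ 0 := by
  by_contra hno
  push Not at hno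
  have hwsplit : ∀ {w x r : ι → F}, f.Ctr K w → x ∈ X → r ∈ f.perp X → x + r = w → f.B r r = 0 := by
    intro w x r hw hx hr he
    have := isoEq hw.1
    rw [← he] at this
    simpa [hno w x r hw hx hr he, hr x hx, f.eq_zero_comm (hr x hx)] using this
  have move : ∀ {x1 x2 w2 r2 : ι → F}, x2 ∈ X → r2 ∈ f.perp X → f.Ctr K w2 → x2 + r2 = w2 →
      ∀ {v : ι → F}, v ∈ X → f.Iso v → ∀ {c : F}, c + f.σ c = 0 →
        ∃ w' x', f.Ctr K w' ∧ x' ∈ X ∧ x' + r2 = w' ∧ f.B x1 x' = f.B x1 x2 + c * f.B v x2 * f.B x1 v := by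
    intro x1 x2 w2 r2 hx2 hr2 hw2 he2 v hv hvi c hc
    have hg := (hfull v hv hvi).2 c hc
    refine ⟨_, x2 + (c * f.B v x2) • v, hw2.of_conj hg (f.trans_preserves v hvi hc),
      X.add_mem hx2 (X.smul_mem _ hv), ?_, by simp⟩
    rw [← he2, Matrix.mulVec_add, trans_fix hv hvi c hr2, f.trans_mulVec]
  obtain ⟨c0, hc0, hc0t⟩ := f.exists_trace_zero
  -- no two centres with nonzero components have non-orthogonal residuals
  have pair : ∀ {w1 x1 r1 w2 x2 r2 : ι → F}, f.Ctr K w1 → x1 ∈ X → r1 ∈ f.perp X → x1 + r1 = w1 → x1 ≠ 0 →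
      f.Ctr K w2 → x2 ∈ X → r2 ∈ f.perp X → x2 + r2 = w2 → x2 ≠ 0 → f.B r1 r2 = 0 := by
    intro w1 x1 r1 w2 x2 r2 hw1 hx1 hr1 he1 h10 hw2 hx2 hr2 he2 h20
    by_contra hρ
    have i1 : f.B x1 x1 = 0 := hno w1 x1 r1 hw1 hx1 hr1 he1
    set ρ := f.B r1 r2 with hρdef
    -- final contradiction once the inner product is independent
    have fin : ∀ {w2 x2 : ι → F}, f.Ctr K w2 → x2 ∈ X → x2 + r2 = w2 →
        f.B x1 x2 * f.σ ρ = f.σ (f.B x1 x2) * ρ := by
      intro w2 x2 hw2 hx2 he2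
      by_contra hind
      set μ := f.B x1 x2 with hμ
      have hμρ : μ + ρ ≠ 0 := fun h => hind (by rw [eq_neg_of_add_eq_zero_left h, map_neg]; ring)
      have hμρ' : f.σ μ + f.σ ρ ≠ 0 := fun h => hμρ (f.σ_eq_zero.1 (by rw [map_add]; exact h))
      obtain ⟨l, hl⟩ : ∃ l, l = c0 / (μ + ρ) := ⟨_, rfl⟩
      have hx12 : f.B x1 r2 = 0 := hr2 x1 hx1
      have hr12 : f.B r1 x2 = 0 := f.eq_zero_comm (hr1 x2 hx2)
      have hw12 : f.B w1 w2 = μ + ρ := by
        rw [← he1, ← he2]; simp [hx12, hr12, ← hμ, ← hρdef]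
      have hiso : f.Iso (w1 + l • w2) := by
        show f.B _ _ = 0
        have hlσ : f.σ l = -c0 / (f.σ μ + f.σ ρ) := by
          rw [hl, map_div₀, map_add, eq_neg_of_add_eq_zero_right hc0t]
        simp only [map_add, LinearMap.map_smulₛₗ, LinearMap.add_apply, LinearMap.smul_apply, map_smul, smul_eq_mul,
          isoEq hw1.1, isoEq hw2.1, ← f.herm w1 w2, hw12, hlσ, map_add]
        rw [hl]
        field_simp
        ring
      have hne12 : f.B w1 (l • w2) ≠ 0 := by
        rw [map_smul, hw12, hl, smul_eq_mul, div_mul_cancel₀ _ hμρ]; exact hc0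
      have hw := hw1.add (hw2.smul l) hne12 hiso
      have h0 := hno _ (x1 + l • x2) (r1 + l • r2) hw (X.add_mem hx1 (X.smul_mem l hx2))
        ((f.perp X).add_mem hr1 ((f.perp X).smul_mem l hr2)) (by rw [← he1, ← he2]; module)
      have i2 : f.B x2 x2 = 0 := hno w2 x2 r2 hw2 hx2 hr2 he2
      have hlσ : f.σ l = -c0 / (f.σ μ + f.σ ρ) := by
        rw [hl, map_div₀, map_add, eq_neg_of_add_eq_zero_right hc0t]
      simp only [map_add, LinearMap.map_smulₛₗ, LinearMap.add_apply, LinearMap.smul_apply, map_smul, smul_eq_mul,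
        i1, i2, ← f.herm x1 x2, ← hμ, hlσ] at h0
      rw [hl] at h0
      field_simp at h0
      exact hind (mul_left_cancel₀ hc0 (by linear_combination h0))
    have hμ0 : ∀ {w2 x2 : ι → F}, f.Ctr K w2 → x2 ∈ X → x2 + r2 = w2 → f.B x1 x2 = 0 := by
      intro w2 x2 hw2 hx2 he2
      by_contra hμ
      set μ := f.B x1 x2 with hμdef
      have hμ' : f.B x2 x1 ≠ 0 := fun h => hμ (f.eq_zero_comm h)
      have i2 : f.B x2 x2 = 0 := hno w2 x2 r2 hw2 hx2 hr2 he2
      obtain ⟨y, hyX, hy1, hy2, hy⟩ : ∃ y ∈ X, f.B x1 y = 0 ∧ f.B x2 y = 0 ∧ f.B y y ≠ 0 := by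
        by_contra h
        push Not at h
        have horth : ∀ y ∈ X, f.B x1 y = 0 → f.B x2 y = 0 → y = 0 := by
          intro y hy hy1 hy2
          refine hX y hy fun z hz => ?_
          set z' := z - ((f.B x2 z) / (f.B x2 x1)) • x1 - ((f.B x1 z) / μ) • x2 with hz'
          have hz'X : z' ∈ X := X.sub_mem (X.sub_mem hz (X.smul_mem _ hx1)) (X.smul_mem _ hx2)
          have hz1 : f.B x1 z' = 0 := by simp [hz', i1, ← hμdef, hμ]
          have hz2 : f.B x2 z' = 0 := by simp [hz', i2, hμ']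
          obtain ⟨t, ht⟩ := f.exists_moved
          have k1 := h (y + z') (X.add_mem hy hz'X) (by rw [map_add, hy1, hz1, add_zero]) (by rw [map_add, hy2, hz2, add_zero])
          have k2 := h (y + t • z') (X.add_mem hy (X.smul_mem t hz'X)) (by rw [map_add, map_smul, hy1, hz1, smul_zero, add_zero])
            (by rw [map_add, map_smul, hy2, hz2, smul_zero, add_zero])
          simp only [map_add, LinearMap.map_smulₛₗ, LinearMap.add_apply, LinearMap.smul_apply, map_smul, smul_eq_mul,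
            h y hy hy1 hy2, h z' hz'X hz1 hz2] at k1 k2
          have k3 : f.B y z' = 0 := by
            have : (t - f.σ t) * f.B y z' = 0 := by linear_combination k2 - f.σ t * k1
            exact (mul_eq_zero.1 this).resolve_left (sub_ne_zero.2 (Ne.symm ht))
          have e : z = z' + ((f.B x2 z) / (f.B x2 x1)) • x1 + ((f.B x1 z) / μ) • x2 := by rw [hz']; abel
          rw [e, map_add, map_add, k3, map_smul, map_smul, f.eq_zero_comm hy1, f.eq_zero_comm hy2]
          simp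
        have hle : X ≤ Submodule.span F (Set.range ![x1, x2]) := fun z hz => by
          have hz' := horth (z - ((f.B x2 z) / (f.B x2 x1)) • x1 - ((f.B x1 z) / μ) • x2)
            (X.sub_mem (X.sub_mem hz (X.smul_mem _ hx1)) (X.smul_mem _ hx2))
            (by simp [i1, ← hμdef, hμ]) (by simp [i2, hμ'])
          rw [sub_sub, sub_eq_zero] at hz'
          rw [hz']
          exact add_mem (Submodule.smul_mem _ _ (Submodule.subset_span ⟨0, rfl⟩))
            (Submodule.smul_mem _ _ (Submodule.subset_span ⟨1, rfl⟩))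
        have := (Submodule.finrank_mono hle).trans (finrank_range_le_card _)
        rw [Fintype.card_fin] at this
        omega
      obtain ⟨τ, hτ⟩ := f.exists_trace (s := -f.B y y) (by rw [map_neg, f.herm])
      have hv : f.Iso (x1 + (τ / μ) • x2 + y) := by
        show f.B _ _ = 0
        simp only [map_add, LinearMap.map_smulₛₗ, LinearMap.add_apply, LinearMap.smul_apply, map_smul, smul_eq_mul,
          i1, i2, hy1, hy2, f.eq_zero_comm hy1, f.eq_zero_comm hy2, ← f.herm x1 x2, ← hμdef, map_div₀]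
        have hμσ : f.σ μ ≠ 0 := fun h => hμ (f.σ_eq_zero.1 h)
        field_simp
        linear_combination (μ * f.σ μ) * hτ
      have hvX : x1 + (τ / μ) • x2 + y ∈ X := X.add_mem (X.add_mem hx1 (X.smul_mem _ hx2)) hyX
      obtain ⟨w', x', hw', hx', he', hμ2⟩ := move (x1 := x1) hx2 hr2 hw2 he2 hvX hv hc0t
      have e1 : f.B (x1 + (τ / μ) • x2 + y) x2 = μ := by simp [i2, f.eq_zero_comm hy2, ← hμdef]
      have e2 : f.B x1 (x1 + (τ / μ) • x2 + y) = τ := by
        simp [i1, hy1, ← hμdef, div_mul_cancel₀ _ hμ]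
      rw [e1, e2] at hμ2
      have f1 := fin hw2 hx2 he2
      have f2 := fin hw' hx' he'
      rw [hμ2, ← hμdef, map_add, map_mul, map_mul, eq_neg_of_add_eq_zero_right hc0t] at f2
      have : c0 * (f.σ μ * ρ) * (τ + f.σ τ) = 0 := by linear_combination f2 - (1 + c0 * τ) * f1
      rw [hτ] at this
      exact mul_ne_zero (mul_ne_zero hc0 (mul_ne_zero (fun h => hμ (f.σ_eq_zero.1 h)) hρ)) (neg_ne_zero.2 hy) this
    obtain ⟨v, hvX, hvi, hv1, hv2⟩ := exists_common hX hx1 hx2 h10 h20 i1 (hno w2 x2 r2 hw2 hx2 hr2 he2)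
    obtain ⟨w', x', hw', hx', he', hμ2⟩ := move (x1 := x1) hx2 hr2 hw2 he2 hvX hvi hc0t
    have := hμ0 hw' hx' he'
    rw [hμ2, hμ0 hw2 hx2 he2, zero_add] at this
    exact mul_ne_zero (mul_ne_zero hc0 fun h => hv2 (f.eq_zero_comm h)) hv1 this
  -- so all centres lie in the subspace or its orthogonal space
  have hsplit : ∀ {w x r : ι → F}, f.Ctr K w → x ∈ X → r ∈ f.perp X → x + r = w → x ≠ 0 → r = 0 := by
    intro w x r hw hx hr he' hx0
    refine f.nondeg.1 r fun z => ?_
    have hle : Submodule.span F {w | f.Ctr K w} ≤ LinearMap.ker (f.B r) := by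
      refine Submodule.span_le.2 fun w2 hw2 => ?_
      obtain ⟨x2, hx2, r2, hr2, he2⟩ := exists_decomp hX w2
      show f.B r w2 = 0
      rw [← he2, map_add, f.eq_zero_comm (hr x2 hx2), zero_add]
      rcases eq_or_ne x2 0 with h | h
      · subst h
        rw [zero_add] at he2
        subst he2
        by_contra hne'
        obtain ⟨hi2, hc2⟩ := id hw2
        have hg := hc2 c0 hc0t
        have h1 := hw.of_conj hg (f.trans_preserves r2 hi2 hc0t)
        rw [← he', Matrix.mulVec_add, f.trans_mulVec, f.trans_mulVec, f.eq_zero_comm (hr2 x hx), mul_zero, zero_smul,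
          add_zero] at h1
        have h2 := pair hw hx hr he' hx0 h1 hx ((f.perp X).add_mem hr ((f.perp X).smul_mem _ hr2)) rfl hx0
        rw [map_add, map_smul, hwsplit hw hx hr he', zero_add, smul_eq_mul, ← f.herm r r2] at h2
        exact mul_ne_zero (mul_ne_zero hc0 fun h => hne' (f.σ_eq_zero.1 h)) hne' h2
      · exact pair hw hx hr he' hx0 hw2 hx2 hr2 he2 h
    rw [hspan] at hle
    exact hle (Submodule.mem_top (x := z))
  -- the subspace is invariant under the regular element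
  have hin : ∀ x ∈ X, f.Iso x → f.B e x ≠ 0 → (u : Matrix ι ι F) *ᵥ x ∈ X := by
    intro x hx hxi hxe
    have hc := (hfull x hx hxi).of_conj hu (hKf u hu)
    obtain ⟨a, ha, r, hr, he'⟩ := exists_decomp hX ((u : Matrix ι ι F) *ᵥ x)
    have ha0 : a ≠ 0 := by
      intro h
      apply hxe
      rw [← hKf u hu e x, hue, ← he', h, zero_add]
      exact hr e he
    rw [← he', hsplit hc ha hr he' ha0, add_zero]
    exact ha
  obtain ⟨z, hzX, hez⟩ : ∃ z ∈ X, f.B e z ≠ 0 := by
    by_contra h; push Not at h; exact he0 (hX e he h)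
  obtain ⟨e', heX', hei', hee'⟩ := f.exists_partner he hzX hei hez
  have h10 : f.B e' e = 1 := by rw [← f.herm e e', hee', map_one]
  have hin2 : ∀ x ∈ X, f.Iso x → (u : Matrix ι ι F) *ᵥ x ∈ X := by
    intro x hx hxi
    by_cases hxe : f.B e x = 0
    · obtain ⟨d, hd⟩ := f.exists_trace (s := -(f.B e' x + f.B x e')) (by rw [map_neg, map_add, f.herm, f.herm, add_comm])
      have hy : f.Iso (x + d • e + e') := by
        show f.B _ _ = 0
        simp only [map_add, LinearMap.map_smulₛₗ, LinearMap.add_apply, LinearMap.smul_apply, map_smul, smul_eq_mul,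
          isoEq hxi, isoEq hei, isoEq hei', hee', h10, hxe, f.eq_zero_comm hxe]
        linear_combination hd
      have h1 := hin _ (X.add_mem (X.add_mem hx (X.smul_mem d he)) heX') hy (by simp [isoEq hei, hxe, hee'])
      have h2 := hin e' heX' hei' (by rw [hee']; exact one_ne_zero)
      rw [Matrix.mulVec_add, Matrix.mulVec_add, Matrix.mulVec_smul, hue] at h1
      have := X.sub_mem (X.sub_mem h1 h2) (X.smul_mem d he)
      rwa [add_sub_cancel_right, add_sub_cancel_right] at this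
    · exact hin x hx hxi hxe
  have hXu : ∀ x ∈ X, (u : Matrix ι ι F) *ᵥ x ∈ X := by
    intro x hx
    have := f.le_span_iso_of_pair X he heX' hei hei' hee' hx
    clear hx
    induction this using Submodule.span_induction with
    | mem w hw => exact hin2 w hw.1 hw.2
    | zero => rw [Matrix.mulVec_zero]; exact X.zero_mem
    | add a b _ _ ha hb =>
      rw [Matrix.mulVec_add]
      exact X.add_mem ha hb
    | smul c a _ ha => rw [Matrix.mulVec_smul]; exact X.smul_mem c ha
  -- hence so is the orthogonal space, which then contains a fixed vector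
  let L : X →ₗ[F] X := LinearMap.codRestrict X ((Matrix.toLin' (u : Matrix ι ι F)).comp X.subtype)
    (fun x => by simpa using hXu x x.2)
  have hLinj : Function.Injective L := by
    intro a b h
    have h' : (u : Matrix ι ι F) *ᵥ (a : ι → F) = (u : Matrix ι ι F) *ᵥ (b : ι → F) := by
      simpa [L] using congrArg Subtype.val h
    exact Subtype.ext (Matrix.mulVec_injective_of_isUnit u.isUnit h')
  have hperp : ∀ z ∈ f.perp X, (u : Matrix ι ι F) *ᵥ z ∈ f.perp X := by
    intro z hz w hw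
    obtain ⟨a, ha⟩ := LinearMap.injective_iff_surjective.1 hLinj ⟨w, hw⟩
    have ha' : (u : Matrix ι ι F) *ᵥ (a : ι → F) = w := by simpa [L] using congrArg Subtype.val ha
    rw [← ha', hKf u hu]
    exact hz a a.2
  obtain ⟨y, hy, hy0⟩ := (Submodule.ne_bot_iff (f.perp X)).1 fun h => by
    have h2 := f.finrank_perp_ge X
    rw [h, finrank_bot] at h2
    refine hne (Submodule.eq_top_of_finrank_eq ?_)
    have h3 := Submodule.finrank_le X
    rw [Module.finrank_fintype_fun_eq_card] at h3 ⊢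
    omega
  obtain ⟨k, hk⟩ := hnil
  set N := (u : Matrix ι ι F) - 1 with hN
  have hNmem : ∀ j, (N ^ j) *ᵥ y ∈ f.perp X := by
    intro j
    induction j with
    | zero => simpa using hy
    | succ j ih =>
      rw [pow_succ', ← Matrix.mulVec_mulVec, hN, Matrix.sub_mulVec, Matrix.one_mulVec]
      exact (f.perp X).sub_mem (hperp _ ih) ih
  obtain ⟨j, hj, hjs⟩ : ∃ j, (N ^ j) *ᵥ y ≠ 0 ∧ (N ^ (j + 1)) *ᵥ y = 0 := by
    have hex : ∃ j, (N ^ (j + 1)) *ᵥ y = 0 := ⟨k, by rw [pow_succ, hk, Matrix.zero_mul, Matrix.zero_mulVec]⟩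
    classical
    refine ⟨Nat.find hex, ?_, Nat.find_spec hex⟩
    rcases Nat.eq_zero_or_pos (Nat.find hex) with h | h
    · rw [h]; simpa using hy0
    · have := Nat.find_min hex (Nat.sub_lt h one_pos)
      rwa [show Nat.find hex - 1 + 1 = Nat.find hex by omega] at this
  rw [pow_succ', ← Matrix.mulVec_mulVec, hN, Matrix.sub_mulVec, Matrix.one_mulVec, sub_eq_zero] at hjs
  obtain ⟨c, hc⟩ := hfix _ hjs
  refine hj ?_
  have h1 : (N ^ j) *ᵥ y ∈ X := hc ▸ X.smul_mem c he
  exact hX _ h1 fun z hz => f.eq_zero_comm (hNmem j z hz)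

/-- A full non-degenerate subspace containing the fixed vector spreads to the whole space. -/
theorem full_top [Finite F] {X : Submodule F (ι → F)} (hX : Nd f X) (hfull : FullOn f K X)
    (h3 : 3 ≤ Module.finrank F X) (hexc : 4 ≤ Module.finrank F X ∨ ∃ a : F, a ≠ 0 ∧ f.σ a * a ≠ 1)
    (hKf : ∀ g ∈ K, f.Preserves g) (hspan : Submodule.span F {w | f.Ctr K w} = ⊤) {e : ι → F} {u : GL ι F}
    (he : e ∈ X) (he0 : e ≠ 0) (hei : f.Iso e) (hu : u ∈ K) (hue : (u : Matrix ι ι F) *ᵥ e = e)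
    (hfix : ∀ z, (u : Matrix ι ι F) *ᵥ z = z → ∃ c : F, z = c • e)
    (hnil : IsNilpotent ((u : Matrix ι ι F) - 1)) : FullOn f K ⊤ := by
  suffices h : ∀ k, ∀ Y : Submodule F (ι → F), Fintype.card ι ≤ Module.finrank F Y + k → X ≤ Y → Nd f Y →
      FullOn f K Y → FullOn f K ⊤ from h (Fintype.card ι) X (by omega) le_rfl hX hfull
  intro k
  induction k with
  | zero =>
    intro Y hY _ _ hf
    have : Y = ⊤ := by
      refine Submodule.eq_top_of_finrank_eq ?_
      have := Submodule.finrank_le Y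
      rw [Module.finrank_fintype_fun_eq_card] at this ⊢
      omega
    rwa [this] at hf
  | succ k ih =>
    intro Y hY hXY hnd hf
    by_cases hne : Y = ⊤
    · rwa [hne] at hf
    have hd := Submodule.finrank_mono hXY
    obtain ⟨w, x, r, hw, hx, hr, he', hxx⟩ :=
      exists_aniso_centre hnd hf (h3.trans hd) hKf hne hspan (hXY he) he0 hei hu hue hfix hnil
    have hexc' : 4 ≤ Module.finrank F Y ∨ ∃ a : F, a ≠ 0 ∧ f.σ a * a ≠ 1 := by
      rcases hexc with h | h
      · exact Or.inl (h.trans hd)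
      · exact Or.inr h
    obtain ⟨Y', hle, hnd', hf', hlt⟩ := step hnd hf (reach_big hnd hf (h3.trans hd) hexc') hKf hw hx hr he' hxx
    exact ih Y' (by omega) (hXY.trans hle) hnd' hf'

end Cfsg.Agent.Lib.SuOddGen
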