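import Cfsg.Agent.Lib.SuOddGen.Seq
import Cfsg.Agent.Lib.SuOddGen.Spread
import Cfsg.Agent.Lib.Geometry.HermBasis
import Mathlib

/-!
A regular unipotent isometry of an odd-dimensional Hermitian space, given by a sequence.
-/

set_option autoImplicit false
set_option linter.unusedSectionVars false
set_option linter.unusedSimpArgs false

namespace Cfsg.Agent.Lib.SuOddGen

open Matrix
open Cfsg.Agent.Lib.MaxSub

variable {F : Type*} [Field F] {n : ℕ} {f : HermF (Fin n) F}

theorem exists_gram_basis [Finite F] (f : HermF (Fin n) F) (H : Fin n → Fin n → F)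
    (hsymm : ∀ i j, f.σ (H i j) = H j i) (hz : ∀ i j : Fin n, n ≤ (i : ℕ) + j → H i j = 0)
    (ha : ∀ i j : Fin n, (i : ℕ) + j + 1 = n → H i j ≠ 0) :
    ∃ B0 : Module.Basis (Fin n) F (Fin n → F), ∀ i j, f.B (B0 i) (B0 j) = H i j := by
  let B' : (Fin n → F) →ₛₗ[f.σ] (Fin n → F) →ₗ[F] F := LinearMap.mk₂'ₛₗ f.σ (RingHom.id F)
    (fun x y => ∑ i, ∑ j, f.σ (x i) * H i j * y j)
    (fun a b y => by simp [add_mul, Finset.sum_add_distrib])
    (fun c a y => by simp [Finset.mul_sum, mul_assoc])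
    (fun x a b => by simp [mul_add, Finset.sum_add_distrib])
    (fun c x y => by simp [Finset.mul_sum, mul_left_comm])
  have happ : ∀ x y, B' x y = ∑ i, ∑ j, f.σ (x i) * H i j * y j := fun _ _ => rfl
  have hsingle : ∀ i j, B' (Pi.single i 1) (Pi.single j 1) = H i j := fun i j => by
    rw [happ, Finset.sum_eq_single i (fun k _ hk => by simp [hk]) (by simp),
      Finset.sum_eq_single j (fun k _ hk => by simp [hk]) (by simp)]
    simp
  have hS : B'.IsSymm := ⟨fun x y => by
    rw [happ, happ, map_sum, Finset.sum_comm]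
    simp only [map_sum, map_mul, f.invol, hsymm]
    exact Finset.sum_congr rfl fun i _ => Finset.sum_congr rfl fun j _ => by ring⟩
  have hleft : ∀ x, (∀ y, B' x y = 0) → x = 0 := by
    intro x hx
    funext i
    induction hi : (i : ℕ) using Nat.strong_induction_on generalizing i with
    | _ a ih =>
      subst hi
      have hj : n - 1 - (i : ℕ) < n := by omega
      have h := hx (Pi.single ⟨n - 1 - i, hj⟩ 1)
      rw [happ, Finset.sum_eq_single i] at h
      · rw [Finset.sum_eq_single (⟨n - 1 - i, hj⟩ : Fin n) (fun k _ hk => by simp [hk]) (by simp)] at h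
        rw [Pi.single_eq_same, mul_one] at h
        exact f.σ_eq_zero.1 ((mul_eq_zero.1 h).resolve_right (ha i _ (by simp; omega)))
      · intro k _ hk
        rcases lt_or_gt_of_ne (Fin.val_ne_of_ne hk) with hlt | hlt
        · simp [ih k hlt k rfl]
        · refine Finset.sum_eq_zero fun j _ => ?_
          rcases eq_or_ne j ⟨n - 1 - i, hj⟩ with rfl | hne
          · rw [hz k _ (by simp; omega)]; simp
          · simp [hne]
      · simp
  have hB : B'.Nondegenerate := ⟨hleft, fun y hy => hleft y fun z => by rw [← hS.eq z y, hy, map_zero]⟩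
  obtain ⟨w, hw⟩ := Geometry.exists_orthonormal_basis f.σ_ne f.invol B' hS hB
  obtain ⟨v, hv⟩ := Geometry.exists_orthonormal_basis f.σ_ne f.invol f.B f.symm f.nondeg
  let Φ : (Fin n → F) ≃ₗ[F] (Fin n → F) := w.equiv v (Equiv.refl _)
  have hΦ : ∀ x y, f.B (Φ x) (Φ y) = B' x y := fun x y => by
    conv_lhs => rw [← w.sum_repr x, ← w.sum_repr y]
    conv_rhs => rw [← w.sum_repr x, ← w.sum_repr y]
    simp only [Φ, map_sum, map_smul, LinearMap.map_smulₛₗ, LinearMap.sum_apply, LinearMap.smul_apply,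
      Module.Basis.equiv_apply, Equiv.refl_apply, hv, hw]
  exact ⟨(Pi.basisFun F (Fin n)).map Φ, fun i j => by simp [hΦ, hsingle]⟩

theorem exists_tri (B0 : Module.Basis (Fin n) F (Fin n → F)) (w : Fin n → (Fin n → F))
    (hw : ∀ i, w i - B0 i ∈ Submodule.span F (B0 '' {j | i < j}))
    (hg : ∀ i j, f.B (w i) (w j) = f.B (B0 i) (B0 j)) :
    ∃ g : GL (Fin n) F, f.Preserves g ∧ g ∈ Cfsg.Geo.specialLinear (Fin n) F ∧
      ∀ i, (g : Matrix (Fin n) (Fin n) F) *ᵥ B0 i = w i := by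
  let L := B0.constr F w
  have hL : ∀ i, L (B0 i) = w i := fun i => B0.constr_basis F w i
  have hent : ∀ i j, j ≤ i → LinearMap.toMatrix B0 B0 L j i = if j = i then 1 else 0 := by
    intro i j hji
    rw [LinearMap.toMatrix_apply, hL, ← sub_add_cancel (w i) (B0 i), map_add, Finsupp.add_apply]
    have h0 : B0.repr (w i - B0 i) j = 0 := by
      by_contra h
      have := (B0.mem_span_image.1 (hw i)) (Finsupp.mem_support_iff.2 h)
      exact absurd this (not_lt.2 hji)
    rw [h0, zero_add, Module.Basis.repr_self, Finsupp.single_apply]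
    simp [eq_comm]
  have hdet : (LinearMap.toMatrix' L).det = 1 := by
    rw [LinearMap.det_toMatrix', ← LinearMap.det_toMatrix B0, Matrix.det_of_lowerTriangular]
    · exact Finset.prod_eq_one fun i _ => by rw [hent i i le_rfl, if_pos rfl]
    · intro i j hij
      have hij' : i < j := hij
      rw [hent j i hij'.le, if_neg hij'.ne]
  let g := Matrix.GeneralLinearGroup.mkOfDetNeZero (LinearMap.toMatrix' L) (by rw [hdet]; exact one_ne_zero)
  have hgv : ∀ x, (g : Matrix (Fin n) (Fin n) F) *ᵥ x = L x := fun x => LinearMap.toMatrix'_mulVec _ x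
  refine ⟨g, fun x y => ?_, MonoidHom.mem_ker.mpr (Units.ext hdet), fun i => by rw [hgv, hL]⟩
  rw [hgv, hgv, ← B0.sum_repr x, ← B0.sum_repr y]
  simp only [map_sum, map_smul, LinearMap.map_smulₛₗ, LinearMap.sum_apply, LinearMap.smul_apply, hL, hg]

/-- The Gram entries of the iterated images. -/
def gramH (σ : F →+* F) (m : ℕ) (z : ℕ → F) (i j : ℕ) : F := (-1) ^ i * seqD σ m z (i + j) (-(i : ℤ))

/-- A coordinate space carrying the regular element of a sequence. -/
structure Reg (f : HermF (Fin n) F) (m : ℕ) where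
  z : ℕ → F
  dim : n = 2 * m + 1
  two : 2 ≤ m
  top : z m + f.σ (z m) ≠ 0
  B0 : Module.Basis (Fin n) F (Fin n → F)
  gram0 : ∀ i j, f.B (B0 i) (B0 j) = gramH f.σ m z i j

namespace Reg

variable {m : ℕ} (R : Reg f m)

/-- The basis, continued by zero. -/
noncomputable def b (i : ℕ) : Fin n → F := if h : i < n then R.B0 ⟨i, h⟩ else 0

/-- The value on the ends. -/
def E : F := R.z m + f.σ (R.z m)

theorem E_ne : R.E ≠ 0 := R.top

theorem σE : f.σ R.E = R.E := by rw [E, map_add, f.invol, add_comm]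

theorem b_fin (i : Fin n) : R.b i = R.B0 i := by rw [b, dif_pos i.2]

theorem b_out {i : ℕ} (h : n ≤ i) : R.b i = 0 := by rw [b, dif_neg (by omega)]

theorem gram_zero {i j : ℕ} (h : 2 * m < i + j) : gramH f.σ m R.z i j = 0 := by
  rw [gramH, seqD_high f.σ h, mul_zero]

theorem gram (i j : ℕ) : f.B (R.b i) (R.b j) = gramH f.σ m R.z i j := by
  have := R.dim
  by_cases hi : i < n
  · by_cases hj : j < n
    · rw [b, b, dif_pos hi, dif_pos hj, R.gram0]
    · rw [R.b_out (not_lt.1 hj), map_zero, R.gram_zero (by omega)]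
  · rw [R.b_out (not_lt.1 hi), map_zero, LinearMap.zero_apply, R.gram_zero (by omega)]

theorem gram_out {i j : ℕ} (h : 2 * m < i + j) : f.B (R.b i) (R.b j) = 0 := by rw [R.gram, R.gram_zero h]

theorem gram_anti {i j : ℕ} (h : i + j = 2 * m) : f.B (R.b i) (R.b j) = (-1) ^ i * R.E := by
  rw [R.gram, gramH, h, seqD_top f.σ (by have := R.two; omega), E]

theorem iso_last : f.Iso (R.b (2 * m)) := R.gram_out (by have := R.two; omega)

theorem gram_inv (i j : ℕ) : gramH f.σ m R.z (i + 1) j + gramH f.σ m R.z i (j + 1) +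
    gramH f.σ m R.z (i + 1) (j + 1) = 0 := by
  have h := seqD_succ f.σ m R.z (i + j + 1) (-((i + 1 : ℕ) : ℤ))
  rw [show -((i + 1 : ℕ) : ℤ) + 1 = -(i : ℤ) by push_cast; ring] at h
  rw [gramH, gramH, gramH, show i + 1 + (j + 1) = (i + j + 1) + 1 by omega, show i + 1 + j = i + j + 1 by omega,
    show i + (j + 1) = i + j + 1 by omega, h, pow_succ]
  ring

theorem gram_first (j : ℕ) : f.B (R.b 0) (R.b j) = seqD f.σ m R.z j 0 := by simp [R.gram, gramH]

theorem mem_span {i : Fin n} {j : ℕ} (h : (i : ℕ) < j) :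
    R.b j ∈ Submodule.span F (R.B0 '' {k | i < k}) := by
  by_cases hj : j < n
  · rw [b, dif_pos hj]
    exact Submodule.subset_span ⟨⟨j, hj⟩, h, rfl⟩
  · rw [R.b_out (not_lt.1 hj)]
    exact zero_mem _

theorem ext_b {A A' : Matrix (Fin n) (Fin n) F} (h : ∀ i, A *ᵥ R.b i = A' *ᵥ R.b i) : A = A' :=
  Matrix.toLin'.injective (R.B0.ext fun i => by simpa [← R.b_fin] using h i)

theorem exists_u : ∃ u : GL (Fin n) F, f.Preserves u ∧ u ∈ Cfsg.Geo.specialLinear (Fin n) F ∧
    ∀ i, (u : Matrix (Fin n) (Fin n) F) *ᵥ R.b i = R.b i + R.b (i + 1) := by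
  obtain ⟨u, h1, h2, h3⟩ := exists_tri (f := f) R.B0 (fun i => R.b i + R.b ((i : ℕ) + 1))
    (fun i => by rw [R.b_fin, add_sub_cancel_left]; exact R.mem_span (Nat.lt_succ_self _))
    (fun i j => by
      rw [← R.b_fin i, ← R.b_fin j]
      simp only [map_add, LinearMap.add_apply, R.gram]
      linear_combination R.gram_inv i j)
  refine ⟨u, h1, h2, fun i => ?_⟩
  by_cases hi : i < n
  · have := h3 ⟨i, hi⟩
    rwa [← R.b_fin] at this
  · rw [R.b_out (not_lt.1 hi), R.b_out (by omega), Matrix.mulVec_zero, add_zero]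

variable {u : GL (Fin n) F} (hu : ∀ i, (u : Matrix (Fin n) (Fin n) F) *ᵥ R.b i = R.b i + R.b (i + 1))
include hu

theorem u_last : (u : Matrix (Fin n) (Fin n) F) *ᵥ R.b (2 * m) = R.b (2 * m) := by
  rw [hu, R.b_out (i := 2 * m + 1) R.dim.le, add_zero]

theorem pow_b (i j : ℕ) : (((u : Matrix (Fin n) (Fin n) F) - 1) ^ j) *ᵥ R.b i = R.b (i + j) := by
  induction j with
  | zero => simp
  | succ j ih =>
    rw [pow_succ', ← Matrix.mulVec_mulVec, ih, Matrix.sub_mulVec, Matrix.one_mulVec, hu, add_sub_cancel_left]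
    rfl

theorem nil : IsNilpotent ((u : Matrix (Fin n) (Fin n) F) - 1) :=
  ⟨n, R.ext_b fun i => by rw [R.pow_b hu, R.b_out (by omega), Matrix.zero_mulVec]⟩

theorem regular : ((u : Matrix (Fin n) (Fin n) F) - 1) ^ (n - 1) ≠ 0 := fun h => by
  have h1 := R.pow_b hu 0 (n - 1)
  rw [h, Matrix.zero_mulVec, Nat.zero_add, b, dif_pos (by have := R.dim; omega)] at h1
  exact R.B0.ne_zero _ h1.symm

theorem fixed (x : Fin n → F) (hx : (u : Matrix (Fin n) (Fin n) F) *ᵥ x = x) :
    ∃ c : F, x = c • R.b (2 * m) := by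
  have hd := R.dim
  have h0 : ((u : Matrix (Fin n) (Fin n) F) - 1) *ᵥ x = 0 := by
    rw [Matrix.sub_mulVec, Matrix.one_mulVec, hx, sub_self]
  rw [← R.B0.sum_repr x, Matrix.mulVec_sum] at h0
  simp only [Matrix.mulVec_smul, ← R.b_fin] at h0
  have hN : ∀ i : ℕ, ((u : Matrix (Fin n) (Fin n) F) - 1) *ᵥ R.b i = R.b (i + 1) := fun i => by
    simpa using R.pow_b hu i 1
  simp only [hN] at h0
  refine ⟨R.B0.repr x ⟨2 * m, by omega⟩, ?_⟩
  have key : ∀ i : Fin n, (i : ℕ) ≠ 2 * m → R.B0.repr x i = 0 := by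
    intro i hi
    have hi1 : (i : ℕ) + 1 < n := by omega
    have h := congrArg (fun y => R.B0.repr y ⟨(i : ℕ) + 1, hi1⟩) h0
    simp only [map_sum, map_smul, map_zero, Finsupp.coe_finsetSum, Finset.sum_apply, Finsupp.smul_apply,
      Finsupp.zero_apply, smul_eq_mul] at h
    rw [Finset.sum_eq_single i] at h
    · rwa [b, dif_pos hi1, Module.Basis.repr_self, Finsupp.single_eq_same, mul_one] at h
    · intro k _ hk
      rw [b]
      split_ifs with hk1
      · rw [Module.Basis.repr_self, Finsupp.single_eq_of_ne, mul_zero]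
        intro h'
        exact hk (Fin.ext (by simpa using (congrArg Fin.val h').symm))
      · simp
    · simp
  conv_lhs => rw [← R.B0.sum_repr x]
  rw [Finset.sum_eq_single (⟨2 * m, by omega⟩ : Fin n), b, dif_pos (by omega)]
  · intro i _ hi
    rw [key i fun h => hi (Fin.ext h), zero_smul]
  · simp

/-- A conjugate of the regular element differing from it by a transvection at the fixed vector. -/
theorem exists_conj_trans {c : F} (hc : c + f.σ c = 0) :
    ∃ g : GL (Fin n) F, f.Preserves g ∧ g ∈ Cfsg.Geo.specialLinear (Fin n) F ∧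
      g * u * g⁻¹ = f.trans (R.b (2 * m)) R.iso_last c * u := by
  have hm := R.two
  have hd := R.dim
  set Q := 2 * m - 1 with hQ
  have hQ1 : Q + 1 = 2 * m := by omega
  obtain ⟨d, hdd⟩ := f.exists_trace (s := (1 : F)) (map_one f.σ)
  obtain ⟨θ, hθ⟩ : ∃ θ, θ = -(c * R.E * d) := ⟨_, rfl⟩
  have hθ' : θ - f.σ θ = -(c * R.E) := by
    rw [hθ, map_neg, map_mul, map_mul, R.σE, eq_neg_of_add_eq_zero_right hc]
    linear_combination (-(c * R.E)) * hdd
  obtain ⟨s, hs⟩ : ∃ s, s = f.B (R.b 0) (R.b Q) * θ := ⟨_, rfl⟩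
  obtain ⟨ε', hε⟩ := f.exists_trace (s := -(s + f.σ s)) (by rw [map_neg, map_add, f.invol, add_comm])
  obtain ⟨ε, hεdef⟩ : ∃ ε, ε = ε' / R.E := ⟨_, rfl⟩
  have hεE : ε * R.E = ε' := by rw [hεdef, div_mul_cancel₀ _ R.E_ne]
  obtain ⟨k, hk⟩ : ∃ k, k = c * R.E + θ := ⟨_, rfl⟩
  let d' : ℕ → (Fin n → F) := fun i =>
    if i = 0 then θ • R.b Q + ε • R.b (2 * m) else if i = 1 then k • R.b (2 * m) else 0
  have d0 : d' 0 = θ • R.b Q + ε • R.b (2 * m) := if_pos rfl
  have d1 : d' 1 = k • R.b (2 * m) := rfl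
  have d2 : ∀ i, d' (i + 2) = 0 := fun i => rfl
  have hspan : ∀ i : Fin n, d' i ∈ Submodule.span F (R.B0 '' {j | i < j}) := fun i => by
    simp only [d']
    split_ifs with h h'
    · exact add_mem (Submodule.smul_mem _ _ (R.mem_span (by omega))) (Submodule.smul_mem _ _ (R.mem_span (by omega)))
    · exact Submodule.smul_mem _ _ (R.mem_span (by omega))
    · exact zero_mem _
  have e0 : f.B (R.b (2 * m)) (R.b 0) = R.E := by rw [R.gram_anti (by omega), pow_mul, neg_one_sq, one_pow, one_mul]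
  have e0' : f.B (R.b 0) (R.b (2 * m)) = R.E := by rw [R.gram_anti (by omega), pow_zero, one_mul]
  have ej : ∀ j, f.B (R.b (2 * m)) (R.b (j + 1)) = 0 := fun j => R.gram_out (by omega)
  have ej' : ∀ j, f.B (R.b (j + 1)) (R.b (2 * m)) = 0 := fun j => R.gram_out (by omega)
  have ee : f.B (R.b (2 * m)) (R.b (2 * m)) = 0 := R.gram_out (by omega)
  have q1 : f.B (R.b Q) (R.b 1) = -R.E := by
    rw [R.gram_anti hQ1, Odd.neg_one_pow ⟨m - 1, by omega⟩, neg_one_mul]
  have q1' : f.B (R.b 1) (R.b Q) = -R.E := by rw [R.gram_anti (by omega), pow_one, neg_one_mul]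
  have qj : ∀ j, f.B (R.b Q) (R.b (j + 2)) = 0 := fun j => R.gram_out (by omega)
  have qj' : ∀ j, f.B (R.b (j + 2)) (R.b Q) = 0 := fun j => R.gram_out (by omega)
  have qq : f.B (R.b Q) (R.b Q) = 0 := R.gram_out (by omega)
  have qe : f.B (R.b Q) (R.b (2 * m)) = 0 := R.gram_out (by omega)
  have eq' : f.B (R.b (2 * m)) (R.b Q) = 0 := R.gram_out (by omega)
  have q0 : f.B (R.b Q) (R.b 0) = f.σ (f.B (R.b 0) (R.b Q)) := (f.herm _ _).symm
  have hgram : ∀ i j : ℕ, f.B (R.b i + d' i) (R.b j + d' j) = f.B (R.b i) (R.b j) := by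
    intro i j
    have hθσ : f.σ θ = θ + c * R.E := by linear_combination -hθ'
    have hσε : f.σ ε * R.E = f.σ ε' := by rw [← hεE, map_mul, R.σE]
    have hσk : f.σ k = θ := by
      rw [hk, map_add, map_mul, R.σE, eq_neg_of_add_eq_zero_right hc, hθσ]; ring
    rw [hs, map_mul] at hε
    rcases i with _ | _ | i <;> rcases j with _ | _ | j <;>
      simp only [d0, d1, d2, Nat.zero_add, map_add, map_zero, LinearMap.map_smulₛₗ, LinearMap.add_apply,
        LinearMap.zero_apply, LinearMap.smul_apply, map_smul, smul_eq_mul, e0, e0', ej, ej', ee, q1, q1', qj, qj',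
        qq, qe, eq', q0, mul_zero, add_zero, zero_add, hσk, show ∀ x, x + 1 + 1 = x + 2 from fun _ => rfl,
        show f.B (R.b (2 * m)) (R.b 1) = 0 from ej 0, show f.B (R.b 1) (R.b (2 * m)) = 0 from ej' 0]
    · linear_combination hε + hεE + hσε
    · rw [hk, hθσ]; ring
    · ring
  obtain ⟨g, hg1, hg2, hg3⟩ := exists_tri (f := f) R.B0 (fun i => R.b i + d' i)
    (fun i => by rw [R.b_fin, add_sub_cancel_left]; exact hspan i)
    (fun i j => by rw [hgram, R.b_fin, R.b_fin])
  have hgb : ∀ i, (g : Matrix (Fin n) (Fin n) F) *ᵥ R.b i = R.b i + d' i := by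
    intro i
    by_cases hi : i < n
    · have := hg3 ⟨i, hi⟩
      rwa [← R.b_fin] at this
    · obtain ⟨i', rfl⟩ := Nat.exists_eq_add_of_le' (show 2 ≤ i by omega)
      rw [R.b_out (not_lt.1 hi), d2, Matrix.mulVec_zero, add_zero]
  have huQ : (u : Matrix (Fin n) (Fin n) F) *ᵥ R.b Q = R.b Q + R.b (2 * m) := by rw [hu, hQ1]
  refine ⟨g, hg1, hg2, mul_inv_eq_iff_eq_mul.2 (Units.ext (R.ext_b fun i => ?_))⟩
  rw [Units.val_mul, Units.val_mul, Units.val_mul, ← Matrix.mulVec_mulVec, ← Matrix.mulVec_mulVec,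
    ← Matrix.mulVec_mulVec, hu, Matrix.mulVec_add, hgb, hgb, f.trans_mulVec]
  rcases i with _ | _ | i
  · simp only [d0, d1, Nat.zero_add, Matrix.mulVec_add, Matrix.mulVec_smul, hu 0, huQ, R.u_last hu, map_add, map_smul,
      e0, eq', ee, show f.B (R.b (2 * m)) (R.b 1) = 0 from ej 0, smul_eq_mul, mul_zero, add_zero]
    rw [hk]
    module
  · simp only [d1, d2, Nat.zero_add, show (1 : ℕ) + 1 = 0 + 2 from rfl, Matrix.mulVec_add, Matrix.mulVec_smul, hu 1,
      R.u_last hu, map_add, map_smul, ee, show f.B (R.b (2 * m)) (R.b 1) = 0 from ej 0,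
      show f.B (R.b (2 * m)) (R.b 2) = 0 from ej 1, smul_eq_mul, mul_zero, add_zero, zero_smul]
    module
  · simp only [d2, show i + 1 + 1 + 1 = (i + 1) + 2 from rfl, hu, add_zero, map_add,
      show ∀ j, f.B (R.b (2 * m)) (R.b (j + 1 + 1)) = 0 from fun j => ej (j + 1), ej, zero_add, mul_zero, zero_smul]

omit hu in
/-- Centres moved by the regular element span the space. -/
theorem span_centres {K : Subgroup (GL (Fin n) F)} (hKf : ∀ g ∈ K, f.Preserves g) (huK : u ∈ K)
    (hfix : ∀ x, (u : Matrix (Fin n) (Fin n) F) *ᵥ x = x → ∃ c : F, x = c • R.b (2 * m))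
    (hnil : IsNilpotent ((u : Matrix (Fin n) (Fin n) F) - 1)) {x : Fin n → F} (hx : f.Ctr K x)
    (hxe : f.B x (R.b (2 * m)) ≠ 0) : Submodule.span F {w | f.Ctr K w} = ⊤ := by
  set S := Submodule.span F {w | f.Ctr K w} with hS
  have hSinv : ∀ w ∈ S, ((u⁻¹ : GL (Fin n) F) : Matrix (Fin n) (Fin n) F) *ᵥ w ∈ S := by
    intro w hw
    induction hw using Submodule.span_induction with
    | mem w hw => exact Submodule.subset_span (hw.of_conj (K.inv_mem huK) (hKf _ (K.inv_mem huK)))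
    | zero => rw [Matrix.mulVec_zero]; exact S.zero_mem
    | add a b _ _ ha hb => rw [Matrix.mulVec_add]; exact S.add_mem ha hb
    | smul c a _ ha => rw [Matrix.mulVec_smul]; exact S.smul_mem c ha
  have hperp : ∀ y ∈ f.perp S, ((u : Matrix (Fin n) (Fin n) F) - 1) *ᵥ y ∈ f.perp S := by
    intro y hy
    rw [Matrix.sub_mulVec, Matrix.one_mulVec]
    refine (f.perp S).sub_mem (fun w hw => ?_) hy
    have h := hKf u huK (((u⁻¹ : GL (Fin n) F) : Matrix (Fin n) (Fin n) F) *ᵥ w) y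
    rw [Matrix.mulVec_mulVec, ← Units.val_mul, mul_inv_cancel, Units.val_one, Matrix.one_mulVec] at h
    rw [h]
    exact hy _ (hSinv w hw)
  by_contra hne
  obtain ⟨y, hy, hy0⟩ := (Submodule.ne_bot_iff (f.perp S)).1 fun h => by
    have h2 := f.finrank_perp_ge S
    rw [h, finrank_bot] at h2
    refine hne (Submodule.eq_top_of_finrank_eq ?_)
    have h3 := Submodule.finrank_le S
    rw [Module.finrank_fintype_fun_eq_card] at h3 ⊢
    omega
  obtain ⟨k, hk⟩ := hnil
  set N := (u : Matrix (Fin n) (Fin n) F) - 1 with hN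
  obtain ⟨j, hj, hjs⟩ : ∃ j, (N ^ j) *ᵥ y ≠ 0 ∧ (N ^ (j + 1)) *ᵥ y = 0 := by
    have hex : ∃ j, (N ^ (j + 1)) *ᵥ y = 0 := ⟨k, by rw [pow_succ, hk, Matrix.zero_mul, Matrix.zero_mulVec]⟩
    classical
    refine ⟨Nat.find hex, ?_, Nat.find_spec hex⟩
    rcases Nat.eq_zero_or_pos (Nat.find hex) with h | h
    · rw [h]; simpa using hy0
    · have := Nat.find_min hex (Nat.sub_lt h one_pos)
      rwa [show Nat.find hex - 1 + 1 = Nat.find hex by omega] at this
  have hmem : ∀ i, (N ^ i) *ᵥ y ∈ f.perp S := by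
    intro i
    induction i with
    | zero => simpa using hy
    | succ i ih => rw [pow_succ', ← Matrix.mulVec_mulVec]; exact hperp _ ih
  rw [pow_succ', ← Matrix.mulVec_mulVec, hN, Matrix.sub_mulVec, Matrix.one_mulVec, sub_eq_zero] at hjs
  obtain ⟨c, hc⟩ := hfix _ hjs
  have h := hmem j x (Submodule.subset_span hx)
  rw [hc, map_smul, smul_eq_mul] at h
  rcases mul_eq_zero.1 h with h' | h'
  · exact hj (by rw [hc, h', zero_smul])
  · exact hxe h'

end Reg

theorem exists_reg [Finite F] (f : HermF (Fin n) F) {m : ℕ} (hn : n = 2 * m + 1) (hm : 2 ≤ m) (z : ℕ → F)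
    (hz : z m + f.σ (z m) ≠ 0) : ∃ R : Reg f m, R.z = z := by
  obtain ⟨B0, hB0⟩ := exists_gram_basis f (fun i j => gramH f.σ m z i j)
    (fun i j => by
      rw [gramH, gramH, map_mul, map_pow, map_neg, map_one, seqD_neg f.σ f.invol, add_comm (j : ℕ) i,
        ← mul_assoc, ← pow_add, show -(-((i : ℕ) : ℤ)) - (((i : ℕ) + (j : ℕ) : ℕ) : ℤ) = -((j : ℕ) : ℤ) by
          push_cast; ring,
        show (i : ℕ) + ((i : ℕ) + (j : ℕ)) = 2 * (i : ℕ) + (j : ℕ) by omega, pow_add, pow_mul, neg_one_sq, one_pow,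
        one_mul])
    (fun i j h => by rw [gramH, seqD_high f.σ (by omega), mul_zero])
    (fun i j h => by
      rw [gramH, show (i : ℕ) + (j : ℕ) = 2 * m by omega, seqD_top f.σ (by omega)]
      exact mul_ne_zero (pow_ne_zero _ (neg_ne_zero.2 one_ne_zero)) hz)
  exact ⟨⟨z, hn, hm, hz, B0, hB0⟩, rfl⟩

end Cfsg.Agent.Lib.SuOddGen
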