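import Mathlib

/-!
Conjugate-symmetric polynomial sequences and their differences.
-/

set_option autoImplicit false

namespace Cfsg.Agent.Lib.SuOddGen

variable {F : Type*} [Field F] (σ : F →+* F)

/-- The difference of order `s` of the symmetrised binomial sequence of degree `2 * j`. -/
def piece (j s : ℕ) (a : F) (k : ℤ) : F :=
  if s ≤ 2 * j then
    a * ((Ring.choose (k + (j : ℤ)) (2 * j - s) : ℤ) : F) +
      σ a * ((Ring.choose (k + (j : ℤ) - 1) (2 * j - s) : ℤ) : F)
  else 0

/-- The difference of order `s` of the sequence with coefficients `z`. -/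
def seqD (m : ℕ) (z : ℕ → F) (s : ℕ) (k : ℤ) : F := ∑ j ∈ Finset.Icc 1 m, piece σ j s (z j) k

theorem piece_succ (j s : ℕ) (a : F) (k : ℤ) :
    piece σ j (s + 1) a k = piece σ j s a (k + 1) - piece σ j s a k := by
  rcases lt_trichotomy s (2 * j) with h | rfl | h
  · rw [piece, piece, piece, if_pos (by omega), if_pos h.le, if_pos h.le,
      show 2 * j - s = (2 * j - (s + 1)) + 1 by omega, show k + 1 + (j : ℤ) - 1 = (k + j - 1) + 1 by ring,
      show k + 1 + (j : ℤ) = (k + j) + 1 by ring, Ring.choose_succ_succ, Ring.choose_succ_succ]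
    push_cast
    ring
  · rw [piece, piece, piece, if_neg (by omega), if_pos le_rfl, if_pos le_rfl, Nat.sub_self]
    simp
  · rw [piece, piece, piece, if_neg (by omega), if_neg (by omega), if_neg (by omega), sub_self]

theorem seqD_succ (m : ℕ) (z : ℕ → F) (s : ℕ) (k : ℤ) :
    seqD σ m z (s + 1) k = seqD σ m z s (k + 1) - seqD σ m z s k := by
  simp only [seqD, ← Finset.sum_sub_distrib, piece_succ]

theorem seqD_neg (hσ : ∀ x, σ (σ x) = x) (m : ℕ) (z : ℕ → F) (s : ℕ) (k : ℤ) :
    σ (seqD σ m z s k) = (-1) ^ s * seqD σ m z s (-k - s) := by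
  induction s generalizing k with
  | zero =>
    simp only [seqD, map_sum, pow_zero, one_mul, Nat.cast_zero, sub_zero]
    refine Finset.sum_congr rfl fun j _ => ?_
    have key : ∀ x : ℤ, Ring.choose (-x + (j : ℤ)) (2 * j) = Ring.choose (x + (j : ℤ) - 1) (2 * j) := fun x => by
      rw [show -x + (j : ℤ) = -(x - j) by ring, Ring.choose_neg]
      simp only [Nat.cast_mul, Nat.cast_ofNat, Int.negOnePow_two_mul, one_smul]
      congr 1
      ring
    have key' := key (-k)
    rw [neg_neg] at key'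
    simp only [piece, Nat.zero_le, if_pos, Nat.sub_zero, map_add, map_mul, map_intCast, hσ, key, key']
    ring
  | succ s ih =>
    rw [seqD_succ, seqD_succ, map_sub, ih, ih,
      show -(k + 1) - (s : ℤ) = -k - ((s + 1 : ℕ) : ℤ) by push_cast; ring,
      show -k - (s : ℤ) = -k - ((s + 1 : ℕ) : ℤ) + 1 by push_cast; ring, pow_succ]
    ring

theorem seqD_top {m : ℕ} (hm : 1 ≤ m) (z : ℕ → F) (k : ℤ) : seqD σ m z (2 * m) k = z m + σ (z m) := by
  rw [seqD, Finset.sum_eq_single m]
  · simp [piece]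
  · intro j hj hne
    rw [piece, if_neg]
    have := (Finset.mem_Icc.1 hj).2
    omega
  · intro h
    exact absurd (Finset.mem_Icc.2 ⟨hm, le_rfl⟩) h

theorem seqD_high {m s : ℕ} (h : 2 * m < s) (z : ℕ → F) (k : ℤ) : seqD σ m z s k = 0 :=
  Finset.sum_eq_zero fun j hj => by
    rw [piece, if_neg]
    have := (Finset.mem_Icc.1 hj).2
    omega

theorem piece_nat (j k : ℕ) (hk : 1 ≤ k + j) (a : F) :
    piece σ j 0 a (k : ℤ) = a * ((k + j).choose (2 * j) : F) + σ a * ((k + j - 1).choose (2 * j) : F) := by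
  rw [piece, if_pos (Nat.zero_le _), Nat.sub_zero, show (k : ℤ) + j = ((k + j : ℕ) : ℤ) by push_cast; ring,
    show ((k + j : ℕ) : ℤ) - 1 = ((k + j - 1 : ℕ) : ℤ) by omega, Ring.choose_natCast, Ring.choose_natCast]
  simp

theorem seqD_zero_zero (m : ℕ) (z : ℕ → F) : seqD σ m z 0 0 = 0 :=
  Finset.sum_eq_zero fun j hj => by
    have h1 := (Finset.mem_Icc.1 hj).1
    rw [← Nat.cast_zero (R := ℤ), piece_nat σ j 0 (by omega), Nat.choose_eq_zero_of_lt (by omega),
      Nat.choose_eq_zero_of_lt (by omega)]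
    simp

theorem seqD_zero_nat (m : ℕ) (z : ℕ → F) {k : ℕ} (hk : 1 ≤ k) :
    seqD σ m z 0 (k : ℤ) = ∑ j ∈ Finset.Icc 1 k, if j ≤ m then
      z j * ((k + j).choose (2 * j) : F) + σ (z j) * ((k + j - 1).choose (2 * j) : F) else 0 := by
  rw [seqD, ← Finset.sum_filter]
  symm
  rw [Finset.sum_subset (s₂ := Finset.Icc 1 m)
    (f := fun j => z j * ((k + j).choose (2 * j) : F) + σ (z j) * ((k + j - 1).choose (2 * j) : F))]
  · exact Finset.sum_congr rfl fun j _ => (piece_nat σ j k (by omega) (z j)).symm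
  · intro j hj
    simp only [Finset.mem_filter, Finset.mem_Icc] at hj ⊢
    omega
  · intro j hj hj'
    simp only [Finset.mem_filter, Finset.mem_Icc, not_and] at hj hj'
    have : k < j := by
      by_contra h
      exact hj' ⟨hj.1, not_lt.1 h⟩ hj.2
    rw [Nat.choose_eq_zero_of_lt (by omega), Nat.choose_eq_zero_of_lt (by omega)]
    simp

end Cfsg.Agent.Lib.SuOddGen
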