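import Cfsg.Agent.Lib.SuOddGen.Main
import Cfsg.Agent.Lib.SuOddGen.Check
import Mathlib

/-!
Three conjugate regular unipotent elements generate over the field of four elements.
-/

set_option autoImplicit false
set_option linter.unusedSectionVars false
set_option linter.unusedSimpArgs false

namespace Cfsg.Agent.Lib.SuOddGen

open Matrix
open Cfsg.Agent.Lib.MaxSub

variable {F : Type*} [Field F] {n m : ℕ} {f : HermF (Fin n) F}

theorem preserves_pow {u : GL (Fin n) F} (hu : f.Preserves u) (k : ℕ) : f.Preserves (u ^ k) := by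
  induction k with
  | zero => intro a b; simp
  | succ k ih => rw [pow_succ]; exact ih.mul hu

namespace Reg

variable (R : Reg f m) {u : GL (Fin n) F}

/-- The values of the sequence are the inner products along the orbit. -/
theorem gram_pow (hu : ∀ i, (u : Matrix (Fin n) (Fin n) F) *ᵥ R.b i = R.b i + R.b (i + 1)) (k i : ℕ) :
    f.B (R.b 0) (((u ^ k : GL (Fin n) F) : Matrix (Fin n) (Fin n) F) *ᵥ R.b i) = seqD f.σ m R.z i (k : ℤ) := by
  induction k generalizing i with
  | zero => rw [pow_zero, Units.val_one, Matrix.one_mulVec, R.gram_first]; rfl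
  | succ k ih =>
    rw [pow_succ, Units.val_mul, ← Matrix.mulVec_mulVec, hu, Matrix.mulVec_add, map_add, ih, ih, seqD_succ,
      Nat.cast_succ]
    ring

/-- Over four elements, the group is everything when five orbit points fill their span. -/
theorem exists_full_two [Fintype F] [CharP F 2] (hF : Fintype.card F = 4) (hσ : ∀ x : F, f.σ x = x ^ 2)
    {ω : F} (hω : ω ^ 2 = ω + 1) (hu1 : f.Preserves u)
    (hu : ∀ i, (u : Matrix (Fin n) (Fin n) F) *ᵥ R.b i = R.b i + R.b (i + 1)) {c : ℕ → ℕ}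
    (hc : ∀ k : ℕ, k < 5 → seqD f.σ m R.z 0 (k : ℤ) = dec4 ω (c k)) {l : List (ℕ × ℕ × ℕ)}
    (hl : check c l start = true) (hnd : ndCheck c = true) {k0 : ℕ} (hk0 : k0 < 5) (hc0 : c k0 % 4 ≠ 0) :
    ∃ g h : GL (Fin n) F, f.Preserves g ∧ g ∈ Cfsg.Geo.specialLinear (Fin n) F ∧ f.Preserves h ∧
      h ∈ Cfsg.Geo.specialLinear (Fin n) F ∧
      FullOn f (Subgroup.closure ({u, g * u * g⁻¹, h * u * h⁻¹} : Set (GL (Fin n) F))) ⊤ := by
  have hm := R.two
  have hdim := R.dim
  have h1 : (1 : F) + f.σ 1 = 0 := by rw [map_one, CharTwo.add_self_eq_zero]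
  obtain ⟨g, hg1, hg2, hgu⟩ := R.exists_conj_trans hu h1
  set e := R.b (2 * m) with he_def
  have hei : f.Iso e := R.iso_last
  have he0 : e ≠ 0 := by rw [he_def, b, dif_pos (by omega)]; exact R.B0.ne_zero _
  have hb0 : R.b 0 ≠ 0 := by rw [b, dif_pos (by omega)]; exact R.B0.ne_zero _
  obtain ⟨h0, hh1, hh2, hhe⟩ := f.exists_special_map_one (by rw [Fintype.card_fin]; omega) hei
    (show f.Iso (R.b 0) from R.gram_zero_zero) he0 hb0
  refine ⟨g, h0⁻¹, hg1, hg2, hh1.inv, Subgroup.inv_mem _ hh2, ?_⟩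
  set K := Subgroup.closure ({u, g * u * g⁻¹, h0⁻¹ * u * h0⁻¹⁻¹} : Set (GL (Fin n) F)) with hKdef
  rw [inv_inv] at hKdef
  have huK : u ∈ K := hKdef ▸ Subgroup.subset_closure (by simp)
  have htK : g * u * g⁻¹ ∈ K := hKdef ▸ Subgroup.subset_closure (by simp)
  have hvK : h0⁻¹ * u * h0 ∈ K := hKdef ▸ Subgroup.subset_closure (by simp)
  have hKf : ∀ k ∈ K, f.Preserves k := by
    intro k hk
    rw [hKdef] at hk
    induction hk using Subgroup.closure_induction with
    | mem k hk =>
      rcases hk with rfl | rfl | rfl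
      · exact hu1
      · exact (hg1.mul hu1).mul hg1.inv
      · exact (hh1.inv.mul hu1).mul hh1
    | one => intro a b; simp
    | mul a b _ _ ha hb => exact ha.mul hb
    | inv a _ ha => exact ha.inv
  have hce : f.Ctr K e := by
    refine ⟨hei, fun x hx => ?_⟩
    rw [hσ] at hx
    have : x * (x + 1) = 0 := by linear_combination hx
    rcases mul_eq_zero.1 this with rfl | h
    · rw [show f.trans e hei 0 = 1 from Units.ext (eq_of_mulVec_eq fun w => by simp [f.trans_mulVec])]
      exact K.one_mem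
    · have hx1 : x = 1 := by linear_combination h - CharTwo.two_eq_zero (R := F)
      subst hx1
      have := K.mul_mem htK (K.inv_mem huK)
      rwa [hgu, mul_inv_cancel_right] at this
  obtain ⟨w, hw_def⟩ : ∃ w : ℕ → (Fin n → F),
      w = fun k => ((h0⁻¹ * u ^ k : GL (Fin n) F) : Matrix (Fin n) (Fin n) F) *ᵥ R.b 0 := ⟨_, rfl⟩
  have hw0 : w 0 = e := by
    simp only [hw_def, pow_zero, mul_one]
    rw [← hhe, Matrix.mulVec_mulVec, ← Units.val_mul, inv_mul_cancel, Units.val_one, Matrix.one_mulVec]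
  have hwc : ∀ k, f.Ctr K (w k) := by
    intro k
    induction k with
    | zero => rw [hw0]; exact hce
    | succ k ih =>
      have h := ih.of_conj hvK (hKf _ hvK)
      simp only [hw_def] at h ⊢
      rwa [Matrix.mulVec_mulVec, ← Units.val_mul, show h0⁻¹ * u * h0 * (h0⁻¹ * u ^ k) = h0⁻¹ * u ^ (k + 1) by
        rw [pow_succ']; group] at h
  have hgle : ∀ i j, f.B (w i) (w (i + j)) = seqD f.σ m R.z 0 (j : ℤ) := fun i j => by
    simp only [hw_def, pow_add, Units.val_mul, ← Matrix.mulVec_mulVec]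
    rw [hh1.inv, preserves_pow hu1 i, R.gram_pow hu]
  have hg : ∀ i < 5, ∀ j < 5, f.B (w i) (w j) = dec4 ω (gramT c i j) := by
    intro i hi j hj
    rw [gramT]
    split_ifs with h
    · obtain ⟨k, rfl⟩ := Nat.exists_eq_add_of_le h
      rw [hgle, Nat.add_sub_cancel_left, hc k (by omega)]
    · obtain ⟨k, rfl⟩ := Nat.exists_eq_add_of_le (Nat.le_of_not_le h)
      rw [← f.herm, hgle, Nat.add_sub_cancel_left, hc k (by omega), hσ, dec4_sig hω]
  obtain ⟨hndX, hfullX, hrX⟩ := five_full w hω hσ hg hF hl hnd fun i _ => hwc i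
  have hxe : f.B (w k0) e ≠ 0 := by
    rw [← hw0]
    intro h
    have h' := f.eq_zero_comm h
    rw [show k0 = 0 + k0 by omega, hgle, hc k0 hk0] at h'
    exact dec4_ne hω hc0 h'
  exact full_top hndX hfullX (by omega) (Or.inl (by omega)) hKf
    (R.span_centres hKf huK (R.fixed hu) (R.nil hu) (hwc k0) hxe)
    (hw0 ▸ Submodule.subset_span ⟨0, rfl⟩) he0 hei huK (R.u_last hu) (R.fixed hu) (R.nil hu)

end Reg

theorem gen3_two {F : Type*} [Field F] [Fintype F] {n m : ℕ} (hF : Fintype.card F = 2 ^ 2)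
    (hn : n = 2 * m + 1) (hm : 2 ≤ m) : Gen3 n F 2 := by
  haveI : Fact (Nat.Prime 2) := ⟨Nat.prime_two⟩
  haveI : CharP F 2 := charP_of_card_eq_prime_pow (f := 2) hF
  let f := stdHerm n hF
  have hσ : ∀ x : F, f.σ x = x ^ 2 := fun x => rfl
  obtain ⟨ω, hω1⟩ := f.exists_trace (s := (1 : F)) (map_one f.σ)
  rw [hσ] at hω1
  have hω : ω ^ 2 = ω + 1 := by linear_combination hω1 - ω * CharTwo.two_eq_zero (R := F)
  have hωs : ω + f.σ ω = 1 := by rw [hσ]; exact hω1
  have hωn : ω + f.σ ω ≠ 0 := by rw [hωs]; exact one_ne_zero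
  have h3 : (3 : F) = 1 := by linear_combination CharTwo.two_eq_zero (R := F)
  have main : ∀ (z : ℕ → F) (c : ℕ → ℕ) (l : List (ℕ × ℕ × ℕ)) (k0 : ℕ), z m + f.σ (z m) ≠ 0 →
      (∀ k : ℕ, k < 5 → seqD f.σ m z 0 (k : ℤ) = dec4 ω (c k)) → check c l start = true → ndCheck c = true → k0 < 5 →
      c k0 % 4 ≠ 0 → Gen3 n F 2 := by
    intro z c l k0 hz hc hl hnd hk0 hc0
    obtain ⟨R, hR⟩ := exists_reg f hn hm z hz
    obtain ⟨u, hu1, hu2, hu⟩ := R.exists_u
    obtain ⟨g, h, hg1, hg2, hh1, hh2, hfull⟩ :=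
      R.exists_full_two (by rw [hF]; norm_num) hσ hω hu1 hu (hR.symm ▸ hc) hl hnd hk0 hc0
    exact finish hF (by omega) hu1 hu2 hg1 hg2 hh1 hh2 (R.nil hu) (R.regular hu) hfull
  have hk : ∀ (z : ℕ → F), seqD f.σ m z 0 (0 : ℤ) = 0 ∧
      seqD f.σ m z 0 1 = z 1 ∧ seqD f.σ m z 0 2 = z 1 + f.σ (z 1) + z 2 ∧
      seqD f.σ m z 0 3 = f.σ (z 1) + (z 2 + f.σ (z 2)) + (if 3 ≤ m then z 3 else 0) ∧
      seqD f.σ m z 0 4 = (z 2 + f.σ (z 2)) + (if 3 ≤ m then z 3 + f.σ (z 3) else 0) +
        (if 4 ≤ m then z 4 else 0) := by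
    intro z
    refine ⟨seqD_zero_zero _ _ _, ?_, ?_, ?_, ?_⟩
    · have h := seqD_zero_nat f.σ m z (k := 1) le_rfl
      simpa [show 1 ≤ m by omega] using h
    · have h := seqD_zero_nat f.σ m z (k := 2) (by norm_num)
      rw [Nat.cast_ofNat] at h
      rw [h]
      simp [Finset.sum_Icc_succ_top, show 1 ≤ m by omega, hm, Nat.choose, h3]
    · have h := seqD_zero_nat f.σ m z (k := 3) (by norm_num)
      rw [Nat.cast_ofNat] at h
      rw [h]
      simp [Finset.sum_Icc_succ_top, show 1 ≤ m by omega, hm, Nat.choose, h3,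
        show (6 : F) = 0 by linear_combination 3 * CharTwo.two_eq_zero (R := F),
        show (5 : F) = 1 by linear_combination 2 * CharTwo.two_eq_zero (R := F)]
    · have h := seqD_zero_nat f.σ m z (k := 4) (by norm_num)
      rw [Nat.cast_ofNat] at h
      rw [h]
      simp [Finset.sum_Icc_succ_top, show 1 ≤ m by omega, hm, Nat.choose, h3,
        show (6 : F) = 0 by linear_combination 3 * CharTwo.two_eq_zero (R := F),
        show (5 : F) = 1 by linear_combination 2 * CharTwo.two_eq_zero (R := F),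
        show (7 : F) = 1 by linear_combination 3 * CharTwo.two_eq_zero (R := F),
        show (10 : F) = 0 by linear_combination 5 * CharTwo.two_eq_zero (R := F),
        show (15 : F) = 1 by linear_combination 7 * CharTwo.two_eq_zero (R := F)]
  rcases (show m = 3 ∨ m = 4 ∨ (m ≠ 3 ∧ m ≠ 4) by omega) with rfl | rfl | ⟨hm3, hm4⟩
  · let z : ℕ → F := fun j => if j = 1 then 1 else if j = 3 then ω else 0
    refine main z (fun k => [0, 1, 0, 3, 1].getD k 0) certB 1 ?_ ?_ (by decide +kernel) (by decide +kernel)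
      (by norm_num) (by decide)
    · simpa [z] using hωn
    · obtain ⟨k0, k1, k2, k3, k4⟩ := hk z
      intro k hk
      interval_cases k <;>
        simp [k0, k1, k2, k3, k4, z, dec4, Nat.testBit_succ, hωs, CharTwo.add_self_eq_zero]
  · let z : ℕ → F := fun j => if j = 2 then 1 else if j = 3 then 1 else if j = 4 then ω else 0
    refine main z (fun k => [0, 0, 1, 1, 2].getD k 0) certC 2 ?_ ?_ (by decide +kernel) (by decide +kernel)
      (by norm_num) (by decide)
    · simpa [z] using hωn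
    · obtain ⟨k0, k1, k2, k3, k4⟩ := hk z
      intro k hk
      interval_cases k <;>
        simp [k0, k1, k2, k3, k4, z, dec4, Nat.testBit_succ, hωs, CharTwo.add_self_eq_zero]
  · let z : ℕ → F := fun j => if j = 2 ∨ j = m then ω else 0
    refine main z (fun k => [0, 0, 2, 1, 1].getD k 0) certA 2 ?_ ?_ (by decide +kernel) (by decide +kernel)
      (by norm_num) (by decide)
    · simpa [z] using hωn
    · obtain ⟨k0, k1, k2, k3, k4⟩ := hk z
      intro k hk
      interval_cases k <;>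
        simp [k0, k1, k2, k3, k4, z, dec4, Nat.testBit_succ, hωs, CharTwo.add_self_eq_zero, hm3.symm, hm4.symm,
          show 1 ≠ m by omega]

end Cfsg.Agent.Lib.SuOddGen
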